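import Cfsg.Agent.Char.Basic
import Mathlib.Analysis.Fourier.FiniteAbelian.PontryaginDuality

/-!
Sums of a character over subgroups and over the fibres of a homomorphism to an abelian group.
-/

set_option autoImplicit false

namespace Cfsg.Agent.D4Deg

universe u v w

/-- The sum of a character over a finite group is a natural multiple of its order. -/
theorem sum_char_inv {H : Type u} [Group H] [Fintype H] {V : Type v} [AddCommGroup V] [Module ℂ V]
    [FiniteDimensional ℂ V] (σ : Representation ℂ H V) :
    ∑ h, σ.character h = (Nat.card H : ℂ) * Module.finrank ℂ σ.invariants := by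
  have hne : (Nat.card H : ℂ) ≠ 0 := Nat.cast_ne_zero.2 Nat.card_pos.ne'
  haveI : Invertible (Nat.card H : ℂ) := invertibleOfNonzero hne
  rw [← σ.card_inv_mul_sum_char_eq_finrank, ← mul_assoc, mul_inv_cancel₀ hne, one_mul]

/-- The representation multiplied by a linear character. -/
noncomputable def twistBy {H : Type u} [Group H] {V : Type v} [AddCommGroup V] [Module ℂ V]
    (σ : Representation ℂ H V) (f : H →* ℂ) : Representation ℂ H V where
  toFun h := f h • σ h
  map_one' := by rw [map_one, map_one, one_smul]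
  map_mul' a b := by rw [map_mul, map_mul, smul_mul_smul_comm]

theorem sum_twist {G : Type u} [Group G] {k : ℕ} (ρ : Representation ℂ G (Fin k → ℂ))
    {H : Type v} [Group H] [Fintype H] (ι : H →* G) (f : H →* ℂ) :
    ∃ N : ℕ, ∑ h, f h * ρ.character (ι h) = (Nat.card H : ℂ) * N := by
  refine ⟨_, (Finset.sum_congr rfl fun h _ => ?_).trans
    (sum_char_inv (twistBy (MonoidHom.comp ρ ι : Representation ℂ H (Fin k → ℂ)) f))⟩
  show f h * LinearMap.trace ℂ _ (ρ (ι h)) = LinearMap.trace ℂ _ (f h • ρ (ι h))
  rw [map_smul, smul_eq_mul]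

/-- The same for an additive group. -/
theorem sum_twist_add {G : Type u} [Group G] {k : ℕ} (ρ : Representation ℂ G (Fin k → ℂ))
    {A : Type v} [AddCommGroup A] [Fintype A] (e : A → G) (hadd : ∀ a b, e (a + b) = e a * e b)
    (ψ : AddChar A ℂ) :
    ∃ N : ℕ, ∑ a, ψ a * ρ.character (e a) = (Nat.card A : ℂ) * N := by
  let ι : Multiplicative A →* G :=
    { toFun := fun a => e a.toAdd
      map_one' := by
        have h := hadd 0 0
        rw [add_zero, left_eq_mul] at h
        exact h
      map_mul' := fun a b => hadd a.toAdd b.toAdd }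
  obtain ⟨N, hN⟩ := sum_twist ρ ι ψ.toMonoidHom
  refine ⟨N, (Eq.trans ?_ hN).trans ?_⟩
  · exact Fintype.sum_equiv Multiplicative.ofAdd _ _ fun a => rfl
  · rw [Nat.card_congr (Multiplicative.toAdd (α := A))]

/-- The multiplicities of the characters of an abelian quotient. -/
theorem fourier {G : Type u} [Group G] {k : ℕ} (ρ : Representation ℂ G (Fin k → ℂ))
    {H : Type v} [Group H] [Fintype H] (ι : H →* G) {Q : Type w} [CommGroup Q] [Fintype Q]
    [DecidableEq Q] (π : H →* Q) :
    ∃ d : AddChar (Additive Q) ℂ → ℕ, ∀ g : H,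
      (Nat.card H : ℂ) * ∑ Λ, (d Λ : ℂ) * Λ (Additive.ofMul (π g)) =
        (Nat.card Q : ℂ) *
          ∑ h ∈ Finset.univ.filter (fun h => π h = π g), ρ.character (ι h) := by
  classical
  have hex : ∀ Λ : AddChar (Additive Q) ℂ, ∃ N : ℕ,
      ∑ h, Λ (Additive.ofMul (π h)⁻¹) * ρ.character (ι h) = (Nat.card H : ℂ) * N := fun Λ =>
    sum_twist ρ ι
      { toFun := fun h => Λ (Additive.ofMul (π h)⁻¹)
        map_one' := by simp [AddChar.map_zero_eq_one]
        map_mul' := fun a b => by
          rw [map_mul, mul_inv, ofMul_mul, AddChar.map_add_eq_mul] }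
  choose d hd using hex
  refine ⟨d, fun g => ?_⟩
  calc (Nat.card H : ℂ) * ∑ Λ, (d Λ : ℂ) * Λ (Additive.ofMul (π g))
      = ∑ Λ : AddChar (Additive Q) ℂ, ∑ h,
          Λ (Additive.ofMul ((π h)⁻¹ * π g)) * ρ.character (ι h) := by
        rw [Finset.mul_sum]
        refine Finset.sum_congr rfl fun Λ _ => ?_
        rw [← mul_assoc, ← hd, Finset.sum_mul]
        refine Finset.sum_congr rfl fun h _ => ?_
        rw [ofMul_mul, AddChar.map_add_eq_mul]
        ring
    _ = ∑ h, (if π h = π g then (Nat.card Q : ℂ) else 0) * ρ.character (ι h) := by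
        rw [Finset.sum_comm]
        refine Finset.sum_congr rfl fun h _ => ?_
        rw [← Finset.sum_mul, AddChar.sum_apply_eq_ite]
        congr 1
        by_cases he : π h = π g
        · rw [if_pos he, if_pos (by simp [he]), Nat.card_eq_fintype_card, Fintype.card_additive]
        · rw [if_neg he, if_neg fun h0 => he ?_]
          have h1 : (π h)⁻¹ * π g = 1 := Additive.ofMul.injective (h0.trans ofMul_one.symm)
          exact inv_mul_eq_one.1 h1
    _ = _ := by
        rw [Finset.mul_sum, Finset.sum_filter]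
        refine Finset.sum_congr rfl fun h _ => ?_
        split <;> simp [mul_comm]

end Cfsg.Agent.D4Deg
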