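import Cfsg.Agent.D4Deg.Class
import Cfsg.Agent.D4Deg.Fourier
import Cfsg.Agent.Char.Integral
import Mathlib.NumberTheory.LegendreSymbol.AddCharacter

/-!
The smallest nonlinear degree of `³D₄(q)`.
-/

set_option autoImplicit false
set_option maxRecDepth 100000
set_option maxHeartbeats 2000000

namespace Cfsg.Agent.D4Deg

open Cfsg.Lie Cfsg.Agent.Chev
open scoped MatrixGroups

universe u

/-- The arithmetic at the end. -/
theorem final_arith {q D s e w m : ℕ} (hq2 : 2 ≤ q) (hD : s + (q - 1) * e = D) (he : e = q ^ 4 * m)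
    (hw : q * w + D = s + q * s) (hm : 0 < m) (hineq : s ≤ (q ^ 3 + 1) * w) :
    q * (q ^ 4 - q ^ 2 + 1) ≤ D ∨ D = (q - 1) * (q ^ 4 + q ^ 3 + 1) := by
  obtain ⟨n, rfl⟩ : ∃ n, q = n + 1 := ⟨q - 1, by omega⟩
  rw [Nat.add_sub_cancel] at hD ⊢
  subst he hD
  have hws : w + n * (n + 1) ^ 3 * m = s := by
    refine Nat.eq_of_mul_eq_mul_left (show 0 < n + 1 by omega) ?_
    nlinarith
  have h1 : n * ((n + 1) ^ 3 + 1) * m ≤ s := by
    refine Nat.le_of_mul_le_mul_left ?_ (show 0 < (n + 1) ^ 3 by positivity)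
    subst hws
    nlinarith
  have hsub : (n + 1) ^ 2 ≤ (n + 1) ^ 4 := Nat.pow_le_pow_right (by omega) (by norm_num)
  set B := (n + 1) * ((n + 1) ^ 4 - (n + 1) ^ 2 + 1) with hB
  have hB' : B + (n + 1) ^ 3 = (n + 1) ^ 5 + (n + 1) := by
    rw [hB]
    obtain ⟨c, hc⟩ := Nat.le.dest hsub
    rw [← hc, Nat.add_sub_cancel_left]
    calc (n + 1) * (c + 1) + (n + 1) ^ 3 = (n + 1) * ((n + 1) ^ 2 + c) + (n + 1) := by ring
      _ = _ := by rw [hc]; ring
  have hT : n * ((n + 1) ^ 4 + (n + 1) ^ 3 + 1) + 1 = B := by nlinarith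
  have hTm : n * ((n + 1) ^ 4 + (n + 1) ^ 3 + 1) * m ≤ s + n * ((n + 1) ^ 4 * m) := by nlinarith
  rcases Nat.lt_or_ge m 2 with hm2 | hm2
  · obtain rfl : m = 1 := by omega
    rw [mul_one] at hTm
    omega
  · left
    have : n * ((n + 1) ^ 4 + (n + 1) ^ 3 + 1) * 2 ≤
        n * ((n + 1) ^ 4 + (n + 1) ^ 3 + 1) * m := Nat.mul_le_mul_left _ hm2
    have : 1 ≤ n * ((n + 1) ^ 4 + (n + 1) ^ 3 + 1) :=
      Nat.one_le_iff_ne_zero.2 (Nat.mul_ne_zero (by omega) (by omega))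
    omega

variable {K : Type u} [Field K] (φ : K →+* K) (hφ : ∀ t, (φ ^ 3) t = t)

/-- The trace to the fixed field. -/
noncomputable def trK : K →+ ↥(Fq φ) where
  toFun v := ⟨v + φ v + φ (φ v), by
    show φ (v + φ v + φ (φ v)) = v + φ v + φ (φ v)
    rw [map_add, map_add, cube φ hφ]; ring⟩
  map_zero' := Subtype.ext (by simp)
  map_add' a b := Subtype.ext (by simp only [map_add, Subfield.coe_add]; ring)

theorem trK_mul (r : ↥(Fq φ)) (v : K) : trK φ hφ ((r : K) * v) = r * trK φ hφ v := by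
  refine Subtype.ext ?_
  show (r : K) * v + φ (r * v) + φ (φ (r * v)) = r * (v + φ v + φ (φ v))
  rw [map_mul, map_mul, coe_fixed, coe_fixed]; ring

/-- A root element of the radical in the abelian quotient. -/
noncomputable def mkX (r : ℕ) (hr : r ∈ qRoots) : K →+ Additive (Qbar K) where
  toFun v := Additive.ofMul (QuotientGroup.mk (⟨X r v, mem_Qf hr v⟩ : ↥(Qf K)))
  map_zero' := by
    rw [← ofMul_one]
    congr 1
    rw [show (⟨X r 0, mem_Qf hr 0⟩ : ↥(Qf K)) = 1 from Subtype.ext (xG_zero facts_chevD4 r)]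
    rfl
  map_add' a b := by
    rw [← ofMul_mul]
    congr 1
    rw [show (⟨X r (a + b), mem_Qf hr _⟩ : ↥(Qf K)) = ⟨X r a, mem_Qf hr a⟩ * ⟨X r b, mem_Qf hr b⟩
      from Subtype.ext (xG_mul facts_chevD4 r a b).symm]
    rfl

theorem conj_mem_Qf (t : K) (r : ↥(Fq φ)) :
    ((uG φ hφ t * aRt φ hφ r * (uG φ hφ t)⁻¹ : Gp φ hφ) : GL chevD4.Idx K) ∈ Qf K := by
  show uel φ t * X 14 (r : K) * (uel φ t)⁻¹ ∈ Qf K
  rw [uel, conj_fourteen]
  have h : ∀ {s : ℕ}, s ∈ qRoots → ∀ v : K, X s v ∈ Qf K := fun hs v => mem_Qf hs v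
  exact Subgroup.mul_mem _ (Subgroup.mul_mem _ (Subgroup.mul_mem _ (h (by decide) _) (h (by decide) _))
    (Subgroup.mul_mem _ (h (by decide) _) (h (by decide) _)))
    (Subgroup.mul_mem _ (Subgroup.mul_mem _ (h (by decide) _) (h (by decide) _))
      (Subgroup.mul_mem _ (h (by decide) _) (h (by decide) _)))

theorem mk_conj (t : K) (r : ↥(Fq φ)) :
    Additive.ofMul (QuotientGroup.mk (⟨_, conj_mem_Qf φ hφ t r⟩ : ↥(Qf K)) : Qbar K) =
      mkX 14 (by decide) (r : K) + mkX 19 (by decide) (-((r : K) * t)) +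
        (mkX 16 (by decide) ((r : K) * φ t) + mkX 21 (by decide) (-((r : K) * φ t * t))) +
      (mkX 15 (by decide) ((r : K) * φ (φ t)) + mkX 20 (by decide) (-((r : K) * φ (φ t) * t)) +
        (mkX 17 (by decide) ((r : K) * φ (φ t) * φ t) +
          mkX 22 (by decide) (-((r : K) * φ (φ t) * φ t * t)))) := by
  simp only [mkX, AddMonoidHom.coe_mk, ZeroHom.coe_mk, ← ofMul_mul, ← QuotientGroup.mk_mul]
  refine congrArg _ (congrArg _ (Subtype.ext ?_))
  show uel φ t * X 14 (r : K) * (uel φ t)⁻¹ = _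
  rw [uel, conj_fourteen]
  rfl

variable {q : ℕ} (hqφ : ∀ (j : ℕ) (t : K), (φ ^ j) t = t ^ q ^ j) [Fintype K] (hq2 : 2 ≤ q)
  (hK : Fintype.card K = q ^ 3)
include hqφ hq2 hK

theorem min_degree {k : ℕ} (ρ : Representation ℂ (Gp φ hφ) (Fin k → ℂ))
    (hρ : ρ.IsIrreducible) (hk : 2 ≤ k) : q * (q ^ 4 - q ^ 2 + 1) ≤ k := by
  classical
  haveI : Fintype ↥(Fq φ) := Fintype.ofFinite _
  haveI : Finite (Gp φ hφ) := inferInstance
  haveI : Fintype (Qbar K) := Fintype.ofFinite _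
  haveI := (d4_twist_simple φ hφ hqφ hq2 hK).1
  have hq : Nat.card ↥(Fq φ) = q := card_Fq φ hφ hqφ hq2 hK
  have hq' : Fintype.card ↥(Fq φ) = q := by rw [← Nat.card_eq_fintype_card, hq]
  have hqC : (q : ℂ) ≠ 0 := Nat.cast_ne_zero.2 (by omega)
  set χ : Gp φ hφ → ℂ := ρ.character with hχ
  have hcl : ∀ g x : Gp φ hφ, χ (g * x * g⁻¹) = χ x := fun g x => ρ.char_conj x g
  have hdim : Module.finrank ℂ (Fin k → ℂ) = k := by rw [Module.finrank_pi, Fintype.card_fin]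
  have hχ1 : χ 1 = (k : ℂ) := by rw [hχ, Representation.char_one, hdim]
  set F : Gp φ hφ → ℂ := fun g => ∑ v, χ (g * zEl φ hφ v) with hF
  have hz0 : zEl φ hφ 0 = 1 := rtEl_zero φ hφ _ _
  have ha0 : aRt φ hφ 0 = 1 := rtEl_zero φ hφ _ _
  have hFz : F 1 = ∑ v, χ (zEl φ hφ v) := by simp only [hF, one_mul]
  -- the root group
  obtain ⟨s, hs⟩ := sum_twist_add ρ (zEl φ hφ) (rtEl_add φ hφ _ _) 1
  simp only [AddChar.one_apply, one_mul, hq] at hs
  have hF1 : F 1 = (q : ℂ) * s := hFz.trans hs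
  set c := χ (zEl φ hφ 1) with hc
  have hsplit : ∀ f : ↥(Fq φ) → ℂ, ∑ v, f v = f 0 + ∑ v ∈ Finset.univ.erase 0, f v := fun f =>
    (Finset.add_sum_erase _ _ (Finset.mem_univ 0)).symm
  have hqs : (q : ℂ) * s = k + ((q : ℂ) - 1) * c := by
    rw [← hs, hsplit, hz0, ← hχ, hχ1, Finset.sum_congr rfl fun v hv =>
      z_const φ hφ hcl v (Finset.ne_of_mem_erase hv), Finset.sum_const,
      Finset.card_erase_of_mem (Finset.mem_univ _), Finset.card_univ, hq', nsmul_eq_mul,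
      Nat.cast_sub (by omega : 1 ≤ q), Nat.cast_one, hc]
  -- an eigenspace of the root group
  obtain ⟨ψ₁, hψ₁⟩ : ∃ ψ : AddChar ↥(Fq φ) ℂ, ψ 1 ≠ 1 :=
    AddChar.exists_apply_ne_zero.2 one_ne_zero
  have hψ₁1 : ψ₁ ≠ 1 := fun h => hψ₁ (by rw [h, AddChar.one_apply])
  have hψ₁p : ψ₁.IsPrimitive := AddChar.IsPrimitive.of_ne_one hψ₁1
  obtain ⟨e, he⟩ := sum_twist_add ρ (zEl φ hφ) (rtEl_add φ hφ _ _) ψ₁
  rw [hq, hsplit] at he
  have hψsum : ∑ v ∈ Finset.univ.erase 0, ψ₁ v = -1 := by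
    have h := hsplit (fun v => ψ₁ v)
    rw [AddChar.map_zero_eq_one, AddChar.sum_eq_zero_of_ne_one hψ₁1] at h
    linear_combination -h
  have hqe : (q : ℂ) * e = k - c := by
    rw [← he, hz0, AddChar.map_zero_eq_one, one_mul, ← hχ, hχ1,
      Finset.sum_congr rfl fun v hv => by
        rw [z_const φ hφ hcl v (Finset.ne_of_mem_erase hv)], ← Finset.sum_mul, hψsum, ← hc]
    ring
  have hD : s + (q - 1) * e = k := by
    have h : (q : ℂ) * ((s : ℂ) + ((q : ℂ) - 1) * e) = (q : ℂ) * k := by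
      linear_combination hqs + ((q : ℂ) - 1) * hqe
    have h2 := mul_left_cancel₀ hqC h
    rw [← Nat.cast_one, ← Nat.cast_sub (by omega : 1 ≤ q)] at h2
    exact_mod_cast h2
  have hpos : 0 < e := by
    by_contra h0
    obtain rfl : e = 0 := by omega
    rw [Nat.cast_zero, mul_zero] at hqe
    have hz : ρ (zEl φ hφ 1) = LinearMap.id := by
      refine (Char.character_eq_finrank_iff ρ _).1 ?_
      rw [← hχ, hdim, ← hc]
      linear_combination hqe
    have hker : ρ.ker = ⊤ := by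
      rcases (MonoidHom.normal_ker ρ).eq_bot_or_eq_top with h | h
      · exfalso
        have hm' : zEl φ hφ 1 ∈ ρ.ker := by rw [MonoidHom.mem_ker, hz]; rfl
        rw [h, Subgroup.mem_bot] at hm'
        have hv : X 23 ((1 : ↥(Fq φ)) : K) = 1 := congrArg Subtype.val hm'
        exact one_ne_zero ((xG_eq_one_iff facts_chevD4 (by decide +kernel)).1 hv)
      · exact h
    obtain ⟨-, hsub⟩ := Char.isIrreducible_iff.1 hρ
    haveI : Nonempty (Fin k) := ⟨⟨0, by omega⟩⟩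
    obtain ⟨x, hx⟩ := exists_ne (0 : Fin k → ℂ)
    have hinvsub := hsub (Submodule.span ℂ {x}) fun g v hv => by
      rw [show ρ g = 1 from MonoidHom.mem_ker.1 (hker ▸ Subgroup.mem_top g)]
      exact hv
    rcases hinvsub with h | h
    · exact hx (Submodule.span_singleton_eq_bot.1 h)
    · have := finrank_span_singleton (K := ℂ) hx
      rw [h, finrank_top, hdim] at this
      omega
  -- an abelian subgroup of order `q ^ 4`
  have hcardA : Nat.card (↥(Fq φ) × K) = q ^ 4 := by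
    rw [Nat.card_prod, hq, Nat.card_eq_fintype_card, hK]; ring
  have hcardB : Nat.card ((↥(Fq φ) × K) × ↥(Fq φ)) = q ^ 5 := by
    rw [Nat.card_prod, hcardA, hq]; ring
  set A : ↥(Fq φ) × K → Gp φ hφ := fun a => aRt φ hφ a.1 * xb φ hφ a.2 with hAdef
  obtain ⟨e₀, e₁, e₂, -, -, -, hxb⟩ := exists_xb φ hφ
  have hxbQ : ∀ t, (xb φ hφ t : GL chevD4.Idx K) ∈ Qf K := fun t => by
    rw [hxb]
    exact Subgroup.mul_mem _ (Subgroup.mul_mem _ (mem_Qf (by decide) _) (mem_Qf (by decide) _))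
      (mem_Qf (by decide) _)
  have hzc : ∀ (g : Gp φ hφ), (g : GL chevD4.Idx K) ∈ Qf K → ∀ v, Commute g (zEl φ hφ v) :=
    fun g hg v => commute_z φ hφ hg v
  have hAQ : ∀ a, (A a : GL chevD4.Idx K) ∈ Qf K := fun a =>
    Subgroup.mul_mem _ (mem_Qf (r := 14) (by decide) _) (hxbQ _)
  have hab : ∀ (r : ↥(Fq φ)) (t : K), Commute (xb φ hφ t) (aRt φ hφ r) := fun r t => by
    refine Subtype.ext ?_
    show Commute ((xb φ hφ t : Gp φ hφ) : GL chevD4.Idx K) (X 14 (r : K))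
    rw [hxb]
    exact ((commute_X (by decide +kernel) _ _).mul_left (commute_X (by decide +kernel) _ _)).mul_left
      (commute_X (by decide +kernel) _ _)
  have hAadd : ∀ a b, A (a + b) = A a * A b := fun a b => by
    simp only [hAdef, Prod.fst_add, Prod.snd_add]
    rw [show aRt φ hφ (a.1 + b.1) = aRt φ hφ a.1 * aRt φ hφ b.1 from rtEl_add φ hφ _ _ _ _,
      xb_add, ← (hab b.1 a.2).mul_mul_mul_comm]
  have hBadd : ∀ a b : (↥(Fq φ) × K) × ↥(Fq φ),
      A (a + b).1 * zEl φ hφ (a + b).2 = (A a.1 * zEl φ hφ a.2) * (A b.1 * zEl φ hφ b.2) := by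
    intro a b
    rw [Prod.fst_add, Prod.snd_add, hAadd,
      show zEl φ hφ (a.2 + b.2) = zEl φ hφ a.2 * zEl φ hφ b.2 from rtEl_add φ hφ _ _ _ _,
      ← ((hzc _ (hAQ b.1) a.2).symm).mul_mul_mul_comm]
  obtain ⟨N₀, hN₀⟩ := sum_twist_add ρ A hAadd 1
  obtain ⟨N₁, hN₁⟩ := sum_twist_add ρ (fun a : (↥(Fq φ) × K) × ↥(Fq φ) => A a.1 * zEl φ hφ a.2) hBadd 1
  simp only [AddChar.one_apply, one_mul, hcardA, hcardB, ← hχ] at hN₀ hN₁
  rw [Fintype.sum_prod_type] at hN₁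
  have hA0 : A 0 = 1 := by simp only [hAdef, Prod.fst_zero, Prod.snd_zero, ha0, xb_zero, mul_one]
  have hN : (q : ℤ) ^ 4 * N₁ = (s : ℤ) + (q : ℤ) ^ 4 * N₀ - k := by
    have h1 : ∑ a, ∑ v, χ (A a * zEl φ hφ v) =
        F 1 + (q : ℂ) * (∑ a, χ (A a) - (k : ℂ)) := by
      rw [← Finset.add_sum_erase _ _ (Finset.mem_univ (0 : ↥(Fq φ) × K)),
        ← Finset.add_sum_erase _ (fun a => χ (A a)) (Finset.mem_univ (0 : ↥(Fq φ) × K)), hA0, hχ1,
        add_sub_cancel_left, Finset.mul_sum]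
      congr 1
      refine Finset.sum_congr rfl fun a ha => ?_
      have hne : a.1 ≠ 0 ∨ a.2 ≠ 0 := by
        by_contra hn
        push Not at hn
        exact Finset.ne_of_mem_erase ha (Prod.ext hn.1 hn.2)
      rw [Finset.sum_congr rfl fun v _ =>
        vanish_ab φ hφ hqφ hq2 hK hcl a.1 a.2 hne v, Finset.sum_const, Finset.card_univ, hq',
        nsmul_eq_mul]
    rw [hN₁, hN₀, hF1] at h1
    have h2 : (q : ℂ) * ((q : ℂ) ^ 4 * N₁) = (q : ℂ) * ((s : ℂ) + (q : ℂ) ^ 4 * N₀ - k) := by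
      push_cast at h1 ⊢
      linear_combination h1
    have h3 := mul_left_cancel₀ hqC h2
    exact_mod_cast h3
  obtain ⟨m, hm⟩ : q ^ 4 ∣ e := by
    have hdvd : (q : ℤ) ^ 4 ∣ ((q : ℤ) - 1) * e := ⟨(N₀ : ℤ) - N₁, by
      have hD' : (s : ℤ) + ((q : ℤ) - 1) * e = k := by
        rw [← hD]; push_cast [Nat.cast_sub (by omega : 1 ≤ q)]; ring
      linear_combination hD' + hN⟩
    have hcop : IsCoprime ((q : ℤ) ^ 4) ((q : ℤ) - 1) :=
      (show IsCoprime (q : ℤ) ((q : ℤ) - 1) from ⟨1, -1, by ring⟩).pow_left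
    exact_mod_cast hcop.dvd_of_dvd_mul_left hdvd
  -- the fixed space of a root group in the radical
  obtain ⟨w, hw⟩ := sum_twist_add ρ (fun a : ↥(Fq φ) × ↥(Fq φ) => aRt φ hφ a.1 * zEl φ hφ a.2)
    (fun a b => by
      rw [Prod.fst_add, Prod.snd_add,
        show aRt φ hφ (a.1 + b.1) = aRt φ hφ a.1 * aRt φ hφ b.1 from rtEl_add φ hφ _ _ _ _,
        show zEl φ hφ (a.2 + b.2) = zEl φ hφ a.2 * zEl φ hφ b.2 from rtEl_add φ hφ _ _ _ _,
        ← ((hzc (aRt φ hφ b.1) (mem_Qf (r := 14) (by decide) _) a.2).symm).mul_mul_mul_comm]) 1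
  simp only [AddChar.one_apply, one_mul, ← hχ, Nat.card_prod, hq] at hw
  rw [Fintype.sum_prod_type] at hw
  set W : ℂ := ∑ r, F (aRt φ hφ r) with hW
  have hWw : W = ((q * q : ℕ) : ℂ) * w := hw
  have hxb0 : xb φ hφ 0 = 1 := xb_zero φ hφ
  have hqw : q * w + k = s + q * s := by
    have h1 : W = F 1 + (q : ℂ) * (∑ r, χ (aRt φ hφ r) - (k : ℂ)) := by
      rw [hW, hsplit, hsplit (fun r => χ (aRt φ hφ r)), ha0, hχ1, add_sub_cancel_left,
        Finset.mul_sum]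
      congr 1
      refine Finset.sum_congr rfl fun r hr => ?_
      show ∑ v, χ (aRt φ hφ r * zEl φ hφ v) = _
      have hv := fun v => vanish_ab φ hφ hqφ hq2 hK hcl r 0 (Or.inl (Finset.ne_of_mem_erase hr)) v
      simp only [hxb0, mul_one] at hv
      rw [Finset.sum_congr rfl fun v _ => hv v, Finset.sum_const, Finset.card_univ, hq',
        nsmul_eq_mul]
    rw [sum_a φ hφ hcl, hs, hF1, hWw] at h1
    push_cast at h1
    have h2 : (q : ℂ) * ((q : ℂ) * w + k) = (q : ℂ) * ((s : ℂ) + q * s) := by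
      linear_combination h1
    exact_mod_cast mul_left_cancel₀ hqC h2
  -- the characters of the abelian quotient
  let H : Subgroup (Gp φ hφ) := (Qf K).comap (Subgroup.subtype _)
  let π : ↥H →* Qbar K :=
    { toFun := fun h => QuotientGroup.mk (⟨((h : Gp φ hφ) : GL chevD4.Idx K), h.2⟩ : ↥(Qf K))
      map_one' := rfl
      map_mul' := fun a b => rfl }
  haveI : Fintype ↥H := Fintype.ofFinite _
  obtain ⟨d, hd⟩ := fourier ρ H.subtype π
  have hzH : ∀ v, zEl φ hφ v ∈ H := fun v => mem_Qf (r := 23) (by decide) _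
  have hfib : ∀ g : ↥H,
      ∑ h ∈ Finset.univ.filter (fun h => π h = π g), χ (H.subtype h) = F (g : Gp φ hφ) := by
    intro g
    let f : ↥(Fq φ) → ↥H := fun v => g * ⟨zEl φ hφ v, hzH v⟩
    have hf : Function.Injective f := fun a b e => by
      have e' := congrArg (fun h : Gp φ hφ => (h : GL chevD4.Idx K))
        (mul_left_cancel (congrArg Subtype.val e : (g : Gp φ hφ) * zEl φ hφ a = g * zEl φ hφ b))
      exact Subtype.ext (xG_inj facts_chevD4 (r := 23) (by decide +kernel) e')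
    have him : Finset.univ.filter (fun h => π h = π g) = Finset.univ.image f := by
      ext h
      simp only [Finset.mem_filter, Finset.mem_univ, true_and, Finset.mem_image]
      constructor
      · intro hh
        obtain ⟨v, hv⟩ := Subgroup.mem_subgroupOf.1 (QuotientGroup.eq.1 hh.symm)
        have hv' : X 23 v =
            ((g : Gp φ hφ) : GL chevD4.Idx K)⁻¹ * ((h : Gp φ hφ) : GL chevD4.Idx K) := hv
        have hfix : φ v = v := top_fixed φ hφ (by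
          rw [hv']; exact Subgroup.mul_mem _ (Subgroup.inv_mem _ g.1.2) h.1.2)
        refine ⟨⟨v, hfix⟩, Subtype.ext (Subtype.ext ?_)⟩
        show ((g : Gp φ hφ) : GL chevD4.Idx K) * X 23 v = _
        rw [hv', mul_inv_cancel_left]
      · rintro ⟨v, rfl⟩
        show π (g * ⟨zEl φ hφ v, hzH v⟩) = π g
        rw [map_mul, mul_eq_left]
        refine (QuotientGroup.eq_one_iff _).2 ?_
        rw [Subgroup.mem_subgroupOf]
        exact ⟨(v : K), rfl⟩
    rw [him, Finset.sum_image fun a _ b _ e => hf e]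
    rfl
  have hQ0 : (Nat.card (Qbar K) : ℂ) ≠ 0 := Nat.cast_ne_zero.2 Nat.card_pos.ne'
  have hH0 : (Nat.card ↥H : ℂ) ≠ 0 := Nat.cast_ne_zero.2 Nat.card_pos.ne'
  have hd' : ∀ g : ↥H, (Nat.card (Qbar K) : ℂ) * F (g : Gp φ hφ) =
      (Nat.card ↥H : ℂ) * ∑ Λ, (d Λ : ℂ) * Λ (Additive.ofMul (π g)) := fun g => by
    rw [hd g, hfib]
  -- the additive characters of the field
  set ψ : AddChar K ℂ := ψ₁.compAddMonoidHom (trK φ hφ) with hψ
  have hψp : ψ.IsPrimitive := by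
    refine AddChar.IsPrimitive.of_ne_one fun h1 => ?_
    obtain ⟨w₀, hw₀⟩ := exists_lin_ne_zero φ hqφ hq2 hK (c₀ := 1) 1 1 one_ne_zero
    simp only [one_mul] at hw₀
    have hu : trK φ hφ w₀ ≠ 0 := fun h => hw₀ (congrArg Subtype.val h)
    refine hψ₁ ?_
    have := DFunLike.congr_fun h1 (((trK φ hφ w₀)⁻¹ : ↥(Fq φ)) * w₀ : K)
    rw [hψ, AddChar.compAddMonoidHom_apply, trK_mul, inv_mul_cancel₀ hu, AddChar.one_apply] at this
    exact this
  have hsurj : Function.Surjective ψ.mulShift :=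
    ((Fintype.bijective_iff_injective_and_card _).2
      ⟨AddChar.to_mulShift_inj_of_isPrimitive hψp, AddChar.card_eq.symm⟩).2
  have hB : ∀ (Λ : AddChar (Additive (Qbar K)) ℂ) (r : ℕ), ∃ B : K, ∀ hr : r ∈ qRoots, ∀ v,
      Λ (mkX r hr v) = ψ (B * v) := fun Λ r => by
    by_cases hr : r ∈ qRoots
    · obtain ⟨B, hB⟩ := hsurj (Λ.compAddMonoidHom (mkX r hr))
      refine ⟨B, fun _ v => ?_⟩
      have h := DFunLike.congr_fun hB v
      rw [AddChar.mulShift_apply, AddChar.compAddMonoidHom_apply] at h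
      exact h.symm
    · exact ⟨0, fun h => absurd h hr⟩
  choose B hB using hB
  set P : AddChar (Additive (Qbar K)) ℂ → K → ↥(Fq φ) := fun Λ t => trK φ hφ
    (B Λ 14 - B Λ 19 * t + B Λ 16 * φ t - B Λ 21 * (φ t * t) + B Λ 15 * φ (φ t) -
      B Λ 20 * (φ (φ t) * t) + B Λ 17 * (φ (φ t) * φ t) - B Λ 22 * (φ (φ t) * φ t * t)) with hP
  have hsum : ∀ a : ↥(Fq φ), ∑ r, ψ₁ (r * a) = if a = 0 then (q : ℂ) else 0 := fun a => by
    rw [AddChar.sum_mulShift a hψ₁p, hq']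
    split_ifs <;> simp
  have hline : ∀ Λ t, ∑ r, Λ (Additive.ofMul (π ⟨uG φ hφ t * aRt φ hφ r * (uG φ hφ t)⁻¹,
      conj_mem_Qf φ hφ t r⟩)) = if P Λ t = 0 then (q : ℂ) else 0 := fun Λ t => by
    rw [← hsum]
    refine Finset.sum_congr rfl fun r _ => ?_
    show Λ (Additive.ofMul (QuotientGroup.mk (⟨_, conj_mem_Qf φ hφ t r⟩ : ↥(Qf K)) : Qbar K)) = _
    rw [mk_conj]
    simp only [AddChar.map_add_eq_mul, hB Λ]
    simp only [← AddChar.map_add_eq_mul]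
    rw [hψ, AddChar.compAddMonoidHom_apply, hP, ← trK_mul]
    congr 2
    ring
  have hdQ : ∀ r : ↥(Fq φ), dRt φ hφ r ∈ H := fun r => mem_Qf (r := 22) (by decide) _
  have hlinf : ∀ Λ, ∑ r, Λ (Additive.ofMul (π ⟨dRt φ hφ r, hdQ r⟩)) =
      if trK φ hφ (B Λ 22) = 0 then (q : ℂ) else 0 := fun Λ => by
    rw [← hsum]
    refine Finset.sum_congr rfl fun r _ => ?_
    show Λ (mkX 22 (by decide) (r : K)) = _
    rw [hB Λ, hψ, AddChar.compAddMonoidHom_apply, mul_comm (B Λ 22), trK_mul]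
  set n : AddChar (Additive (Qbar K)) ℂ → ℕ := fun Λ =>
    (Finset.univ.filter fun t => P Λ t = 0).card + if trK φ hφ (B Λ 22) = 0 then 1 else 0 with hn
  have hn1 : ∀ Λ, 1 ≤ n Λ := by
    intro Λ
    by_cases h22 : trK φ hφ (B Λ 22) = 0
    · simp only [hn, if_pos h22]; omega
    simp only [hn, if_neg h22, add_zero]
    refine Finset.one_le_card.2 ?_
    set b : ℕ → K := B Λ with hb
    have h1 : ∀ t, φ t = t ^ q := fun t => by simpa using hqφ 1 t
    have h2 : ∀ t, φ (φ t) = t ^ q ^ 2 := fun t => by rw [h1 (φ t), h1, ← pow_mul, pow_two]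
    set c₁ : K := -b 19 + φ (b 15) + φ (φ (b 16)) with hc₁
    set c₂ : K := b 16 + φ (-b 19) + φ (φ (b 15)) with hc₂
    set c₄ : K := b 15 + φ (b 16) + φ (φ (-b 19)) with hc₄
    set c₃ : K := -b 21 + φ (-b 20) + φ (φ (b 17)) with hc₃
    set c₅ : K := -b 20 + φ (b 17) + φ (φ (-b 21)) with hc₅
    set c₆ : K := b 17 + φ (-b 21) + φ (φ (-b 20)) with hc₆
    set c₀ : K := (trK φ hφ (b 14) : K) with hc₀
    set c₇ : K := -(trK φ hφ (b 22) : K) with hc₇
    have heval : ∀ t, (P Λ t : K) = c₀ + c₁ * t + c₂ * t ^ q + c₃ * t ^ (1 + q) + c₄ * t ^ q ^ 2 +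
        c₅ * t ^ (1 + q ^ 2) + c₆ * t ^ (q + q ^ 2) + c₇ * t ^ (1 + q + q ^ 2) := fun t => by
      set x := b 14 - b 19 * t + b 16 * φ t - b 21 * (φ t * t) + b 15 * φ (φ t) -
        b 20 * (φ (φ t) * t) + b 17 * (φ (φ t) * φ t) - b 22 * (φ (φ t) * φ t * t) with hx
      show x + φ x + φ (φ x) = _
      simp only [pow_add, pow_one, ← h1, ← h2, hc₀, hc₁, hc₂, hc₃, hc₄, hc₅, hc₆, hc₇, hx, trK,
        AddMonoidHom.coe_mk, ZeroHom.coe_mk, map_add, map_sub, map_mul, map_neg, cube φ hφ]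
      ring
    obtain ⟨t, ht⟩ := exists_zero hq2 hK c₀ c₁ c₂ c₃ c₄ c₅ c₆ c₇
      (neg_ne_zero.2 fun h => h22 (Subtype.ext h))
      (fun t => by rw [← heval, ← h1]; exact (P Λ t).2)
      (by rw [← h1, hc₇, map_neg, coe_fixed])
    exact ⟨t, Finset.mem_filter.2 ⟨Finset.mem_univ _, Subtype.ext ((heval t).trans ht)⟩⟩
  have hFd : ∀ r, ∑ v, χ (uG φ hφ r * 1 * (uG φ hφ r)⁻¹ * zEl φ hφ v) = F 1 :=
    fun r => fsum_u φ hφ hcl r 1
  have hWt : ∀ t, ∑ r, F (uG φ hφ t * aRt φ hφ r * (uG φ hφ t)⁻¹) = W := fun t =>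
    Finset.sum_congr rfl fun r _ => fsum_u φ hφ hcl t (aRt φ hφ r)
  have hWd : ∑ r, F (dRt φ hφ r) = W := by
    obtain ⟨ε, hε, hd0⟩ := exists_d_of_a φ hφ hcl
    refine (Fintype.sum_equiv (Equiv.mulLeft₀ ε hε) _ _ fun r => ?_).symm
    show F (aRt φ hφ r) = F (dRt φ hφ (ε * r))
    rw [hd0]
    exact (fsum_n0 φ hφ hcl _).symm
  have hineq : s ≤ (q ^ 3 + 1) * w := by
    have hsumd : (Nat.card (Qbar K) : ℂ) * F 1 = (Nat.card ↥H : ℂ) * ((∑ Λ, d Λ : ℕ) : ℂ) := by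
      have h := hd' 1
      simp only [map_one, ofMul_one, AddChar.map_zero_eq_one, mul_one, Subgroup.coe_one] at h
      rw [h, Nat.cast_sum]
    have hP' : (Nat.card (Qbar K) : ℂ) * (((q ^ 3 + 1 : ℕ) : ℂ) * W) =
        (Nat.card ↥H : ℂ) * ((∑ Λ, d Λ * (q * n Λ) : ℕ) : ℂ) := by
      have e1 : (((q ^ 3 + 1 : ℕ) : ℂ) * W) =
          (∑ t, ∑ r, F (uG φ hφ t * aRt φ hφ r * (uG φ hφ t)⁻¹)) + ∑ r, F (dRt φ hφ r) := by
        rw [Finset.sum_congr rfl fun t _ => hWt t, Finset.sum_const, Finset.card_univ, hK, hWd,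
          nsmul_eq_mul]
        push_cast; ring
      rw [e1, mul_add, Finset.mul_sum, Finset.mul_sum]
      simp only [Finset.mul_sum]
      have e2 : ∀ t r, (Nat.card (Qbar K) : ℂ) * F (uG φ hφ t * aRt φ hφ r * (uG φ hφ t)⁻¹) =
          (Nat.card ↥H : ℂ) * ∑ Λ, (d Λ : ℂ) * Λ (Additive.ofMul (π ⟨_, conj_mem_Qf φ hφ t r⟩)) :=
        fun t r => hd' ⟨_, conj_mem_Qf φ hφ t r⟩
      have e3 : ∀ r, (Nat.card (Qbar K) : ℂ) * F (dRt φ hφ r) =
          (Nat.card ↥H : ℂ) * ∑ Λ, (d Λ : ℂ) * Λ (Additive.ofMul (π ⟨_, hdQ r⟩)) :=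
        fun r => hd' ⟨_, hdQ r⟩
      simp only [e2, e3, ← Finset.mul_sum, ← mul_add]
      congr 1
      have f1 : ∀ t, ∑ r, ∑ Λ, (d Λ : ℂ) * Λ (Additive.ofMul (π ⟨_, conj_mem_Qf φ hφ t r⟩)) =
          ∑ Λ, (d Λ : ℂ) * if P Λ t = 0 then (q : ℂ) else 0 := fun t => by
        rw [Finset.sum_comm]
        exact Finset.sum_congr rfl fun Λ _ => by rw [← Finset.mul_sum, hline]
      have f2 : ∑ r, ∑ Λ, (d Λ : ℂ) * Λ (Additive.ofMul (π ⟨_, hdQ r⟩)) =
          ∑ Λ, (d Λ : ℂ) * if trK φ hφ (B Λ 22) = 0 then (q : ℂ) else 0 := by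
        rw [Finset.sum_comm]
        exact Finset.sum_congr rfl fun Λ _ => by rw [← Finset.mul_sum, hlinf]
      refine (congrArg₂ (· + ·) (Finset.sum_congr rfl fun t _ => f1 t) f2).trans ?_
      rw [Finset.sum_comm, ← Finset.sum_add_distrib, Nat.cast_sum]
      refine Finset.sum_congr rfl fun Λ _ => ?_
      rw [← Finset.mul_sum, ← mul_add, ← Finset.sum_filter, Finset.sum_const, nsmul_eq_mul, hn]
      push_cast
      split_ifs <;> ring
    rw [hF1] at hsumd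
    rw [hWw] at hP'
    have hmain : ((∑ Λ, d Λ : ℕ) : ℂ) * (((q ^ 3 + 1) * (q * q * w) : ℕ) : ℂ) =
        ((∑ Λ, d Λ * (q * n Λ) : ℕ) : ℂ) * ((q * s : ℕ) : ℂ) := by
      refine mul_left_cancel₀ hQ0 (mul_left_cancel₀ hH0 ?_)
      push_cast at hsumd hP' ⊢
      linear_combination ((Nat.card (Qbar K) : ℂ) * (((q : ℂ) ^ 3 + 1) * ((q : ℂ) * q * w))) * hsumd.symm +
        ((Nat.card (Qbar K) : ℂ) * ((q : ℂ) * s)) * hP'
    have hnat : (∑ Λ, d Λ) * ((q ^ 3 + 1) * (q * q * w)) = (∑ Λ, d Λ * (q * n Λ)) * (q * s) := by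
      exact_mod_cast hmain
    rcases Nat.eq_zero_or_pos (∑ Λ, d Λ) with h0 | h0
    · rw [h0, Nat.cast_zero, mul_zero, mul_eq_zero, or_iff_right hQ0, mul_eq_zero, or_iff_right hqC,
        Nat.cast_eq_zero] at hsumd
      omega
    · have hle : (∑ Λ, d Λ) * q ≤ ∑ Λ, d Λ * (q * n Λ) := by
        rw [Finset.sum_mul]
        exact Finset.sum_le_sum fun Λ _ =>
          Nat.mul_le_mul_left _ (Nat.le_mul_of_pos_right _ (hn1 Λ))
      have h2 : (∑ Λ, d Λ) * q * (q * s) ≤ (∑ Λ, d Λ) * ((q ^ 3 + 1) * (q * q * w)) :=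
        hnat ▸ Nat.mul_le_mul_right _ hle
      refine Nat.le_of_mul_le_mul_left ?_
        (show 0 < (∑ Λ, d Λ) * (q * q) from Nat.mul_pos h0 (Nat.mul_pos (by omega) (by omega)))
      calc (∑ Λ, d Λ) * (q * q) * s = (∑ Λ, d Λ) * q * (q * s) := by ring
        _ ≤ _ := h2
        _ = _ := by ring
  rcases final_arith hq2 hD hm hqw
      (Nat.pos_of_ne_zero fun h0 => by rw [h0, mul_zero] at hm; omega) hineq with h | h
  · exact h
  · exfalso
    refine not_dvd hq2 ?_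
    rw [← h, ← d4_card_G1 φ hφ hqφ hq2 hK]
    exact Char.IsIrr.degree_dvd_card (Char.isIrrCharacter_of_rep ρ hρ) hχ1

end Cfsg.Agent.D4Deg
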