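import Mathlib.FieldTheory.Finite.Basic
import Mathlib.Algebra.Polynomial.Degree.Lemmas
import Mathlib.RingTheory.Coprime.Basic
import Mathlib.Tactic.LinearCombination

/-!
Two pieces of arithmetic: a trilinear norm-type form has a zero, and a divisibility fails.
-/

set_option autoImplicit false

namespace Cfsg.Agent.D4Deg

universe u

variable {K : Type u} [Field K] [Fintype K]

/-- A form of multidegree at most `(1, 1, 1)` in the conjugates of `t`, with values in the subfield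
of order `q` and nonzero top coefficient, has a zero. -/
theorem exists_zero {q : ℕ} (hq2 : 2 ≤ q) (hK : Fintype.card K = q ^ 3)
    (c₀ c₁ c₂ c₃ c₄ c₅ c₆ c₇ : K) (h7 : c₇ ≠ 0)
    (hfix : ∀ t : K, (c₀ + c₁ * t + c₂ * t ^ q + c₃ * t ^ (1 + q) + c₄ * t ^ q ^ 2 +
      c₅ * t ^ (1 + q ^ 2) + c₆ * t ^ (q + q ^ 2) + c₇ * t ^ (1 + q + q ^ 2)) ^ q =
        c₀ + c₁ * t + c₂ * t ^ q + c₃ * t ^ (1 + q) + c₄ * t ^ q ^ 2 +
      c₅ * t ^ (1 + q ^ 2) + c₆ * t ^ (q + q ^ 2) + c₇ * t ^ (1 + q + q ^ 2))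
    (htop : c₇ ^ q = c₇) :
    ∃ t : K, c₀ + c₁ * t + c₂ * t ^ q + c₃ * t ^ (1 + q) + c₄ * t ^ q ^ 2 +
      c₅ * t ^ (1 + q ^ 2) + c₆ * t ^ (q + q ^ 2) + c₇ * t ^ (1 + q + q ^ 2) = 0 := by
  classical
  by_contra hno
  push Not at hno
  open Polynomial in
  set P : K[X] := C c₀ + C c₁ * X + C c₂ * X ^ q + C c₃ * X ^ (1 + q) + C c₄ * X ^ q ^ 2 +
    C c₅ * X ^ (1 + q ^ 2) + C c₆ * X ^ (q + q ^ 2) + C c₇ * X ^ (1 + q + q ^ 2) with hP
  have hq' : q ≤ q ^ 2 := Nat.le_self_pow two_ne_zero q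
  set N := 1 + q + q ^ 2 with hN
  have hNcard : (q - 1) * N = q ^ 3 - 1 := by
    obtain ⟨m, rfl⟩ : ∃ m, q = m + 1 := ⟨q - 1, by omega⟩
    rw [Nat.add_sub_cancel, hN]
    exact (Nat.sub_eq_of_eq_add (by ring)).symm
  have hdeg : P.natDegree ≤ N := by
    rw [hP]
    refine Polynomial.natDegree_add_le_of_degree_le ?_ (Polynomial.natDegree_C_mul_X_pow_le _ _)
    refine Polynomial.natDegree_add_le_of_degree_le ?_
      (le_trans (Polynomial.natDegree_C_mul_X_pow_le _ _) (by omega))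
    refine Polynomial.natDegree_add_le_of_degree_le ?_
      (le_trans (Polynomial.natDegree_C_mul_X_pow_le _ _) (by omega))
    refine Polynomial.natDegree_add_le_of_degree_le ?_
      (le_trans (Polynomial.natDegree_C_mul_X_pow_le _ _) (by omega))
    refine Polynomial.natDegree_add_le_of_degree_le ?_
      (le_trans (Polynomial.natDegree_C_mul_X_pow_le _ _) (by omega))
    refine Polynomial.natDegree_add_le_of_degree_le ?_
      (le_trans (Polynomial.natDegree_C_mul_X_pow_le _ _) (by omega))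
    refine Polynomial.natDegree_add_le_of_degree_le ?_
      (le_trans (Polynomial.natDegree_C_mul_le _ _) (by rw [Polynomial.natDegree_X]; omega))
    rw [Polynomial.natDegree_C]; omega
  have hcoef : P.coeff N = c₇ := by
    simp only [hP, Polynomial.coeff_add, Polynomial.coeff_C_mul_X_pow, Polynomial.coeff_C_mul_X,
      Polynomial.coeff_C, hN]
    rw [if_neg (by omega), if_neg (by omega), if_neg (by omega), if_neg (by omega),
      if_neg (by omega), if_neg (by omega), if_neg (by omega)]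
    simp
  have heval : ∀ t : K, (P ^ (q - 1)).eval t = 1 := fun t => by
    have h := hfix t
    have h0 := hno t
    rw [Polynomial.eval_pow]
    have e : P.eval t = c₀ + c₁ * t + c₂ * t ^ q + c₃ * t ^ (1 + q) + c₄ * t ^ q ^ 2 +
        c₅ * t ^ (1 + q ^ 2) + c₆ * t ^ (q + q ^ 2) + c₇ * t ^ (1 + q + q ^ 2) := by
      simp [hP, hN]
    rw [e]
    refine mul_left_cancel₀ h0 ?_
    rw [← pow_succ', mul_one, show q - 1 + 1 = q by omega, h]
  have hsum : ∑ t : K, (P ^ (q - 1)).eval t = 0 := by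
    rw [Finset.sum_congr rfl fun t _ => heval t, Finset.sum_const, Finset.card_univ, nsmul_one]
    exact FiniteField.cast_card_eq_zero K
  set Q := P ^ (q - 1) with hQ
  have hQdeg : Q.natDegree ≤ q ^ 3 - 1 :=
    le_trans (Polynomial.natDegree_pow_le_of_le _ hdeg) (le_of_eq hNcard)
  have hQcoef : Q.coeff (q ^ 3 - 1) = c₇ ^ (q - 1) := by
    rw [← hNcard, hQ, Polynomial.coeff_pow_of_natDegree_le hdeg, hcoef]
  have hcard : 2 ≤ q ^ 3 := le_trans hq2 (Nat.le_self_pow (by norm_num) q)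
  have htop' : ∑ t : K, t ^ (q ^ 3 - 1) = -1 := by
    rw [Finset.sum_eq_sum_sdiff_singleton_add (Finset.mem_univ (0 : K)), zero_pow (by omega),
      add_zero]
    have : ∀ t ∈ (Finset.univ : Finset K) \ {0}, t ^ (q ^ 3 - 1) = 1 := fun t ht => by
      rw [← hK]
      exact FiniteField.pow_card_sub_one_eq_one t (by simpa using ht)
    rw [Finset.sum_congr rfl this, Finset.sum_const, nsmul_one, Finset.card_sdiff]
    rw [Finset.inter_univ, Finset.card_univ, Finset.card_singleton, Nat.cast_sub Fintype.card_pos,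
      FiniteField.cast_card_eq_zero]
    simp
  have hcalc : ∑ t : K, Q.eval t = -(c₇ ^ (q - 1)) := by
    rw [Finset.sum_congr rfl fun t _ =>
      Polynomial.eval_eq_sum_range' (Nat.lt_succ_of_le hQdeg) t, Finset.sum_comm,
      Finset.sum_range_succ, ← Finset.mul_sum, htop', hQcoef, mul_neg, mul_one, add_eq_right]
    refine Finset.sum_eq_zero fun i hi => ?_
    rw [← Finset.mul_sum, FiniteField.sum_pow_lt_card_sub_one K i
      (by rw [hK]; exact Finset.mem_range.1 hi), mul_zero]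
  rw [hcalc, neg_eq_zero] at hsum
  exact h7 (pow_eq_zero_iff (by omega) |>.1 hsum)

/-- The exceptional degree does not divide the order. -/
theorem not_dvd {q : ℕ} (hq2 : 2 ≤ q) :
    ¬ (q - 1) * (q ^ 4 + q ^ 3 + 1) ∣
      q ^ 12 * (q ^ 2 - 1) * (q ^ 6 - 1) * (q ^ 8 + q ^ 4 + 1) := by
  intro h
  have h' : ((q ^ 4 + q ^ 3 + 1 : ℕ) : ℤ) ∣
      ((q ^ 12 * (q ^ 2 - 1) * (q ^ 6 - 1) * (q ^ 8 + q ^ 4 + 1) : ℕ) : ℤ) :=
    Int.natCast_dvd_natCast.2 ((Nat.dvd_mul_left _ _).trans h)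
  have h1 : 1 ≤ q ^ 2 := Nat.one_le_pow _ _ (by omega)
  have h2 : 1 ≤ q ^ 6 := Nat.one_le_pow _ _ (by omega)
  push_cast [Nat.cast_sub h1, Nat.cast_sub h2] at h'
  set x : ℤ := (q : ℤ)
  set d : ℤ := x ^ 4 + x ^ 3 + 1 with hd
  rw [show x ^ 12 * (x ^ 2 - 1) * (x ^ 6 - 1) * (x ^ 8 + x ^ 4 + 1) =
    x ^ 12 * ((x + 1) ^ 2 * ((x ^ 2 - x + 1) ^ 2 * ((x ^ 4 - x ^ 2 + 1) *
      ((x - 1) * ((x - 1) * ((x ^ 2 + x + 1) * ((x ^ 2 + x + 1) * 1))))))) by ring] at h'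
  have c0 : IsCoprime d x := ⟨1, -(x ^ 3 + x ^ 2), by rw [hd]; ring⟩
  have c2 : IsCoprime d (x + 1) := ⟨1, -x ^ 3, by rw [hd]; ring⟩
  have c6 : IsCoprime d (x ^ 2 - x + 1) :=
    ⟨x - 1, 1 - (x - 1) * (x + 1) ^ 2, by rw [hd]; ring⟩
  have c12 : IsCoprime d (x ^ 4 - x ^ 2 + 1) := ⟨-(x - 1), x, by rw [hd]; ring⟩
  have h4 := c12.dvd_of_dvd_mul_left (c6.pow_right.dvd_of_dvd_mul_left
    (c2.pow_right.dvd_of_dvd_mul_left (c0.pow_right.dvd_of_dvd_mul_left h')))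
  have step : ∀ a Y : ℤ, (∃ u v, 3 = u * d + v * a) → d ∣ a * Y → d ∣ 3 * Y := by
    rintro a Y ⟨u, v, e⟩ hY
    rw [e, add_mul, mul_assoc v]
    exact dvd_add (Dvd.intro_left (Y * u) (by ring)) (hY.mul_left v)
  have b1 : ∃ u v, 3 = u * d + v * (x - 1) := ⟨1, -(x ^ 3 + 2 * x ^ 2 + 2 * x + 2), by rw [hd]; ring⟩
  have b3 : ∃ u v, 3 = u * d + v * (x ^ 2 + x + 1) :=
    ⟨-(x - 1), 1 + (x - 1) * (x ^ 2 - 1), by rw [hd]; ring⟩
  have h5 := step _ _ b1 h4
  rw [mul_left_comm] at h5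
  have h6 := step _ _ b1 h5
  rw [← mul_assoc, mul_left_comm] at h6
  have h7 := step _ _ b3 h6
  rw [show (3 : ℤ) * (3 * 3 * ((x ^ 2 + x + 1) * 1)) = (x ^ 2 + x + 1) * 27 by ring] at h7
  have h8 := Int.le_of_dvd (by norm_num) (step _ _ b3 h7)
  rcases Nat.lt_or_ge q 3 with hq | hq
  · obtain rfl : q = 2 := by omega
    have := step _ _ b3 h7
    norm_num [hd, x] at this
  · have hx : (3 : ℤ) ≤ (q : ℤ) := by exact_mod_cast hq
    nlinarith [pow_le_pow_left₀ (by norm_num : (0 : ℤ) ≤ 3) hx 4,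
      pow_le_pow_left₀ (by norm_num : (0 : ℤ) ≤ 3) hx 3]

end Cfsg.Agent.D4Deg
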