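import Cfsg.Agent.D4Deg.Elems
import Cfsg.Agent.D4Deg.Zeros
import Mathlib.Algebra.Field.Subfield.Basic
import Mathlib.Algebra.BigOperators.Field

/-!
Class functions on `³D₄(q)` summed over cosets of a long root group.
-/

set_option autoImplicit false
set_option maxRecDepth 100000

namespace Cfsg.Agent.D4Deg

open Cfsg.Lie Cfsg.Agent.Chev
open scoped MatrixGroups

universe u

variable {K : Type u} [Field K] (φ : K →+* K) (hφ : ∀ t, (φ ^ 3) t = t)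

/-- The fixed field. -/
abbrev Fq : Subfield K := RingHom.eqLocusField φ (RingHom.id K)

/-- The group. -/
abbrev Gp : Type u := ↥(twistD4 K φ hφ).G1

theorem coe_fixed (a : ↥(Fq φ)) : φ (a : K) = (a : K) := a.2

theorem pow_two_apply (t : K) : (φ ^ 2) t = φ (φ t) := rfl

theorem cube (hφ : ∀ t, (φ ^ 3) t = t) (t : K) : φ (φ (φ t)) = t := hφ t

/-- A long root element. -/
noncomputable def rtEl (r : ℕ) (hr : r ∈ ([14, 22, 23] : List ℕ)) (a : ↥(Fq φ)) : Gp φ hφ :=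
  ⟨X r (a : K), single_mem φ hφ r hr a a.2⟩

/-- The central root element. -/
noncomputable def zEl (a : ↥(Fq φ)) : Gp φ hφ := rtEl φ hφ 23 (by decide) a

/-- The fundamental long root element. -/
noncomputable def aRt (a : ↥(Fq φ)) : Gp φ hφ := rtEl φ hφ 14 (by decide) a

/-- The last long root element of the radical. -/
noncomputable def dRt (a : ↥(Fq φ)) : Gp φ hφ := rtEl φ hφ 22 (by decide) a

theorem rtEl_add (r : ℕ) (hr : r ∈ ([14, 22, 23] : List ℕ)) (a b : ↥(Fq φ)) :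
    rtEl φ hφ r hr (a + b) = rtEl φ hφ r hr a * rtEl φ hφ r hr b :=
  Subtype.ext (xG_mul facts_chevD4 r (a : K) (b : K)).symm

theorem rtEl_zero (r : ℕ) (hr : r ∈ ([14, 22, 23] : List ℕ)) : rtEl φ hφ r hr 0 = 1 :=
  Subtype.ext (xG_zero facts_chevD4 r)

/-- The element of the short fundamental orbit. -/
noncomputable def uG (t : K) : Gp φ hφ := ⟨uel φ t, uel_mem φ hφ t⟩

/-- The reflection representatives. -/
noncomputable def nG' (a : Fin 2) : Gp φ hφ := ⟨nel φ hφ a, nel_mem φ hφ a⟩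

/-- The orbit of the second root. -/
noncomputable def xb (t : K) : Gp φ hφ := nG' φ hφ 1 * uG φ hφ t * (nG' φ hφ 1)⁻¹

/-- The orbit of the third root. -/
noncomputable def xc (t : K) : Gp φ hφ := nG' φ hφ 0 * xb φ hφ t * (nG' φ hφ 0)⁻¹

theorem mul3 {G : Type u} [Group G] {a b c a' b' c' : G} (h1 : Commute b a') (h2 : Commute c a')
    (h3 : Commute c b') : a * b * c * (a' * b' * c') = a * a' * (b * b') * (c * c') := by
  have e1 : b * c * a' = a' * b * c := by rw [mul_assoc, h2.eq, ← mul_assoc, h1.eq]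
  calc a * b * c * (a' * b' * c') = a * (b * c * a') * b' * c' := by group
    _ = a * a' * b * (c * b') * c' := by rw [e1]; group
    _ = _ := by rw [h3.eq]; group

theorem uG_add (t s : K) : uG φ hφ (t + s) = uG φ hφ t * uG φ hφ s := by
  refine Subtype.ext ?_
  show uel φ (t + s) = uel φ t * uel φ s
  rw [uel, uel, uel, mul3 (commute_X (by decide +kernel) _ _) (commute_X (by decide +kernel) _ _)
    (commute_X (by decide +kernel) _ _)]
  simp only [map_add, X, xG_mul]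

theorem xb_add (t s : K) : xb φ hφ (t + s) = xb φ hφ t * xb φ hφ s := by
  rw [xb, xb, xb, uG_add]; group

theorem xb_zero : xb φ hφ 0 = 1 := by
  have h : uG φ hφ 0 = 1 := by
    have := uG_add φ hφ 0 0
    rwa [add_zero, left_eq_mul] at this
  rw [xb, h, mul_one, mul_inv_cancel]

theorem exists_xb : ∃ e₀ e₁ e₂ : K, (e₀ = 1 ∨ e₀ = -1) ∧ (e₁ = 1 ∨ e₁ = -1) ∧ (e₂ = 1 ∨ e₂ = -1) ∧
    ∀ t, (xb φ hφ t : GL chevD4.Idx K) =
      X 19 (e₀ * t) * X 16 (e₁ * φ t) * X 15 (e₂ * φ (φ t)) := by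
  obtain ⟨e₀, h0, c0⟩ := nel_conj φ hφ 1 (r := 18) (s := 19) (by decide +kernel) (by decide +kernel)
  obtain ⟨e₁, h1, c1⟩ := nel_conj φ hφ 1 (r := 13) (s := 16) (by decide +kernel) (by decide +kernel)
  obtain ⟨e₂, h2, c2⟩ := nel_conj φ hφ 1 (r := 12) (s := 15) (by decide +kernel) (by decide +kernel)
  refine ⟨e₀, e₁, e₂, h0, h1, h2, fun t => ?_⟩
  show nel φ hφ 1 * uel φ t * (nel φ hφ 1)⁻¹ = _
  rw [uel, conj_mul₂, conj_mul₂, c0, c1, c2, pow_two_apply]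

theorem exists_xc : ∃ d₀ d₁ d₂ : K, (d₀ = 1 ∨ d₀ = -1) ∧ (d₁ = 1 ∨ d₁ = -1) ∧ (d₂ = 1 ∨ d₂ = -1) ∧
    ∀ t, (xc φ hφ t : GL chevD4.Idx K) =
      X 17 (d₀ * t) * X 20 (d₁ * φ t) * X 21 (d₂ * φ (φ t)) := by
  obtain ⟨e₀, e₁, e₂, h0, h1, h2, hb⟩ := exists_xb φ hφ
  obtain ⟨f₀, g0, c0⟩ := nel_conj φ hφ 0 (r := 19) (s := 17) (by decide +kernel) (by decide +kernel)
  obtain ⟨f₁, g1, c1⟩ := nel_conj φ hφ 0 (r := 16) (s := 20) (by decide +kernel) (by decide +kernel)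
  obtain ⟨f₂, g2, c2⟩ := nel_conj φ hφ 0 (r := 15) (s := 21) (by decide +kernel) (by decide +kernel)
  refine ⟨f₀ * e₀, f₁ * e₁, f₂ * e₂, ?_, ?_, ?_, fun t => ?_⟩
  · rcases g0 with rfl | rfl <;> rcases h0 with rfl | rfl <;> simp
  · rcases g1 with rfl | rfl <;> rcases h1 with rfl | rfl <;> simp
  · rcases g2 with rfl | rfl <;> rcases h2 with rfl | rfl <;> simp
  show nel φ hφ 0 * (xb φ hφ t : GL chevD4.Idx K) * (nel φ hφ 0)⁻¹ = _
  rw [hb, conj_mul₂, conj_mul₂, c0, c1, c2]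
  simp only [mul_assoc]

theorem conj_triple (a₀ a₁ a₂ b₀ b₁ b₂ : K) :
    X 17 b₀ * X 20 b₁ * X 21 b₂ * (X 19 a₀ * X 16 a₁ * X 15 a₂) *
        (X 17 b₀ * X 20 b₁ * X 21 b₂)⁻¹ =
      X 19 a₀ * X 16 a₁ * X 15 a₂ * X 23 (a₀ * b₀ + a₁ * b₁ + a₂ * b₂) := by
  have e1 : X 21 b₂ * (X 19 a₀ * X 16 a₁ * X 15 a₂) * (X 21 b₂)⁻¹ =
      X 19 a₀ * X 16 a₁ * (X 15 a₂ * X 23 (a₂ * b₂)) := by
    rw [conj_mul₂, conj_mul₂, conj_eq_self (by decide +kernel), conj_eq_self (by decide +kernel),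
      conj_X (k := 23) (c := -1) (by decide +kernel)]
    simp
  have e2 : X 20 b₁ * (X 19 a₀ * X 16 a₁ * (X 15 a₂ * X 23 (a₂ * b₂))) * (X 20 b₁)⁻¹ =
      X 19 a₀ * (X 16 a₁ * X 23 (a₁ * b₁)) * (X 15 a₂ * X 23 (a₂ * b₂)) := by
    rw [conj_mul₂, conj_mul₂, conj_mul₂, conj_eq_self (by decide +kernel),
      conj_X (k := 23) (c := -1) (by decide +kernel), conj_eq_self (by decide +kernel),
      conj_eq_self (by decide +kernel)]
    simp
  have e3 : X 17 b₀ * (X 19 a₀ * (X 16 a₁ * X 23 (a₁ * b₁)) * (X 15 a₂ * X 23 (a₂ * b₂))) *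
      (X 17 b₀)⁻¹ = X 19 a₀ * X 23 (a₀ * b₀) * (X 16 a₁ * X 23 (a₁ * b₁)) *
        (X 15 a₂ * X 23 (a₂ * b₂)) := by
    rw [conj_mul₂, conj_mul₂, conj_mul₂, conj_mul₂, conj_X (k := 23) (c := -1) (by decide +kernel),
      conj_eq_self (by decide +kernel), conj_eq_self (by decide +kernel),
      conj_eq_self (by decide +kernel), conj_eq_self (by decide +kernel)]
    simp
  have hc : ∀ r ∈ qRoots, ∀ v w : K, Commute (X 23 w) (X r v) := fun r hr v w =>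
    commute_top w _ (mem_Qf hr v)
  calc _ = X 17 b₀ * (X 20 b₁ * (X 21 b₂ * (X 19 a₀ * X 16 a₁ * X 15 a₂) * (X 21 b₂)⁻¹) *
        (X 20 b₁)⁻¹) * (X 17 b₀)⁻¹ := by group
    _ = _ := by
      rw [e1, e2, e3]
      rw [← mul3 ((hc 16 (by decide) _ _).symm) ((hc 15 (by decide) _ _).symm)
        ((hc 15 (by decide) _ _).symm)]
      simp only [X, xG_mul]

variable {q : ℕ} (hqφ : ∀ (j : ℕ) (t : K), (φ ^ j) t = t ^ q ^ j) [Fintype K] (hq2 : 2 ≤ q)
  (hK : Fintype.card K = q ^ 3)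
include hqφ hq2 hK

include hφ in
theorem card_Fq : Nat.card ↥(Fq φ) = q := by
  have h := d4_card_par φ hφ hqφ hq2 hK 1
  rw [show d4Len 1 = 1 from rfl, pow_one] at h
  refine Eq.trans (Nat.card_congr (Equiv.subtypeEquivRight fun t => ?_)) h
  show φ t = t ↔ (φ ^ d4Len 1) t = t
  rw [show d4Len 1 = 1 from rfl, pow_one]

/-- A linear combination of the conjugates is not identically zero. -/
theorem exists_lin_ne_zero {c₀ : K} (c₁ c₂ : K) (h0 : c₀ ≠ 0) :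
    ∃ w : K, c₀ * w + c₁ * φ w + c₂ * φ (φ w) ≠ 0 := by
  classical
  by_contra hno
  push Not at hno
  have h1 : ∀ w, φ w = w ^ q := fun w => by simpa using hqφ 1 w
  open Polynomial in
  set P : Polynomial K := C c₀ * Polynomial.X + C c₁ * Polynomial.X ^ q +
    C c₂ * Polynomial.X ^ q ^ 2 with hP
  have hq' : q < q ^ 2 := lt_self_pow₀ (by omega) (by norm_num)
  have hq3 : q ^ 2 < q ^ 3 := Nat.pow_lt_pow_right (by omega) (by norm_num)
  have hP0 : P = 0 := by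
    refine Polynomial.eq_zero_of_natDegree_lt_card_of_eval_eq_zero P
      (f := fun w : K => w) Function.injective_id (fun w => ?_) ?_
    · have := hno w
      rw [h1 (φ w), h1 w, ← pow_mul, ← pow_two] at this
      simpa [hP] using this
    · rw [hK, hP]
      refine lt_of_le_of_lt (Polynomial.natDegree_add_le_of_degree_le
        (n := q ^ 2) ?_ (Polynomial.natDegree_C_mul_X_pow_le _ _)) hq3
      refine Polynomial.natDegree_add_le_of_degree_le ?_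
        (le_trans (Polynomial.natDegree_C_mul_X_pow_le _ _) hq'.le)
      exact le_trans (Polynomial.natDegree_C_mul_le _ _) (by rw [Polynomial.natDegree_X]; omega)
  have := congrArg (fun p : Polynomial K => p.coeff 1) hP0
  simp [hP, Polynomial.coeff_X_pow] at this
  rw [if_neg (by omega), if_neg (by omega)] at this
  simp at this
  exact h0 this

variable {χ : Gp φ hφ → ℂ} (hcl : ∀ g x : Gp φ hφ, χ (g * x * g⁻¹) = χ x)

omit [Fintype K] hqφ hq2 hK in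
theorem commute_z {g : Gp φ hφ} (hg : (g : GL chevD4.Idx K) ∈ Qf K) (v : ↥(Fq φ)) :
    Commute g (zEl φ hφ v) :=
  Subtype.ext (commute_top (v : K) _ hg).symm.eq

omit [Fintype K] hqφ hq2 hK in
theorem commute_u (t : K) (v : ↥(Fq φ)) : Commute (uG φ hφ t) (zEl φ hφ v) := by
  refine Subtype.ext ?_
  show Commute (uel φ t) (X 23 (v : K))
  rw [uel]
  exact ((commute_X (by decide +kernel) _ _).mul_left (commute_X (by decide +kernel) _ _)).mul_left
    (commute_X (by decide +kernel) _ _)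

omit [Fintype K] hqφ hq2 hK in
theorem sign_mem {e : K} (he : e = 1 ∨ e = -1) : e ∈ Fq φ ∧ e ≠ 0 := by
  rcases he with rfl | rfl
  · exact ⟨map_one φ, one_ne_zero⟩
  · exact ⟨by show φ (-1) = -1; rw [map_neg, map_one], by simp⟩

include hcl

omit hqφ hq2 hK in
theorem fsum_n0 [Fintype ↥(Fq φ)] (x : Gp φ hφ) :
    ∑ v, χ (nG' φ hφ 0 * x * (nG' φ hφ 0)⁻¹ * zEl φ hφ v) = ∑ v, χ (x * zEl φ hφ v) := by
  obtain ⟨e, he, hc⟩ := nel_conj φ hφ 0 (r := 23) (s := 23) (by decide +kernel) (by decide +kernel)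
  obtain ⟨hem, he0⟩ := sign_mem φ he
  refine (Fintype.sum_equiv (Equiv.mulLeft₀ (⟨e, hem⟩ : ↥(Fq φ))
    (fun h => he0 (congrArg Subtype.val h))) _ _ fun v => ?_).symm
  have hz : zEl φ hφ (⟨e, hem⟩ * v) =
      nG' φ hφ 0 * zEl φ hφ v * (nG' φ hφ 0)⁻¹ := Subtype.ext (hc (v : K)).symm
  show χ (x * zEl φ hφ v) = χ (nG' φ hφ 0 * x * (nG' φ hφ 0)⁻¹ * zEl φ hφ (⟨e, hem⟩ * v))
  rw [hz, ← conj_mul₂, hcl]

omit hqφ hq2 hK in
theorem fsum_u [Fintype ↥(Fq φ)] (t : K) (x : Gp φ hφ) :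
    ∑ v, χ (uG φ hφ t * x * (uG φ hφ t)⁻¹ * zEl φ hφ v) = ∑ v, χ (x * zEl φ hφ v) := by
  refine Finset.sum_congr rfl fun v _ => ?_
  conv_lhs => rw [show zEl φ hφ v = uG φ hφ t * zEl φ hφ v * (uG φ hφ t)⁻¹ by
    rw [(commute_u φ hφ t v).eq, mul_inv_cancel_right], ← conj_mul₂, hcl]

omit hqφ hq2 hK in
theorem exists_d_of_a :
    ∃ e : ↥(Fq φ), e ≠ 0 ∧ ∀ r, dRt φ hφ (e * r) = nG' φ hφ 0 * aRt φ hφ r * (nG' φ hφ 0)⁻¹ := by
  obtain ⟨e, he, hc⟩ := nel_conj φ hφ 0 (r := 14) (s := 22) (by decide +kernel) (by decide +kernel)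
  obtain ⟨hem, he0⟩ := sign_mem φ he
  exact ⟨⟨e, hem⟩, fun h => he0 (congrArg Subtype.val h),
    fun r => Subtype.ext (hc (r : K)).symm⟩

omit hqφ hq2 hK in
theorem sum_a [Fintype ↥(Fq φ)] : ∑ r, χ (aRt φ hφ r) = ∑ r, χ (zEl φ hφ r) := by
  obtain ⟨e, he, hd⟩ := exists_d_of_a φ hφ hcl
  obtain ⟨e', he', hc⟩ := nel_conj φ hφ 1 (r := 22) (s := 23) (by decide +kernel) (by decide +kernel)
  obtain ⟨hem, he0⟩ := sign_mem φ he'
  refine Fintype.sum_equiv ((Equiv.mulLeft₀ e he).trans (Equiv.mulLeft₀ (⟨e', hem⟩ : ↥(Fq φ))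
    (fun h => he0 (congrArg Subtype.val h)))) _ _ fun r => ?_
  show χ (aRt φ hφ r) = χ (zEl φ hφ (⟨e', hem⟩ * (e * r)))
  rw [show zEl φ hφ (⟨e', hem⟩ * (e * r)) = nG' φ hφ 1 * dRt φ hφ (e * r) * (nG' φ hφ 1)⁻¹ from
    Subtype.ext (hc _).symm, hcl, hd, hcl]

omit hqφ hq2 hK in
theorem z_const (r : ↥(Fq φ)) (hr : r ≠ 0) : χ (zEl φ hφ r) = χ (zEl φ hφ 1) := by
  obtain ⟨g, hg, h⟩ := top_conj φ hφ (s := (1 : K)) r.2 (fun e => hr (Subtype.ext e))
  rw [← hcl ⟨g, hg⟩ (zEl φ hφ 1)]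
  congr 1
  refine Subtype.ext ?_
  show X 23 (r : K) = g * X 23 ((1 : ↥(Fq φ)) : K) * g⁻¹
  rw [show ((1 : ↥(Fq φ)) : K) = 1 from rfl, h, mul_one]

theorem vanish_ab (r : ↥(Fq φ)) (t : K) (h : r ≠ 0 ∨ t ≠ 0) (v : ↥(Fq φ)) :
    χ (aRt φ hφ r * xb φ hφ t * zEl φ hφ v) = χ (aRt φ hφ r * xb φ hφ t) := by
  obtain ⟨e₀, e₁, e₂, he₀, he₁, he₂, hb⟩ := exists_xb φ hφ
  by_cases hr : r = 0
  · have ht : t ≠ 0 := h.resolve_left (not_not_intro hr)
    subst hr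
    rw [show aRt φ hφ 0 = 1 from rtEl_zero φ hφ _ _, one_mul]
    obtain ⟨d₀, d₁, d₂, hd₀, hd₁, hd₂, hc⟩ := exists_xc φ hφ
    set L : K → K := fun w => e₀ * t * (d₀ * w) + e₁ * φ t * (d₁ * φ w) +
      e₂ * φ (φ t) * (d₂ * φ (φ w)) with hL
    have hne : e₀ * t * d₀ ≠ 0 :=
      mul_ne_zero (mul_ne_zero (sign_mem φ he₀).2 ht) (sign_mem φ hd₀).2
    obtain ⟨w₀, hw₀⟩ := exists_lin_ne_zero φ hqφ hq2 hK (e₁ * φ t * d₁)
      (e₂ * φ (φ t) * d₂) hne
    have hw₀' : L w₀ ≠ 0 := by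
      intro h0
      refine hw₀ ?_
      rw [← h0, hL]; ring
    have hconj : ∀ w, (xc φ hφ w * xb φ hφ t * (xc φ hφ w)⁻¹ : Gp φ hφ).1 =
        (xb φ hφ t).1 * X 23 (L w) := fun w => by
      show (xc φ hφ w).1 * (xb φ hφ t).1 * ((xc φ hφ w).1)⁻¹ = _
      rw [hc, hb, conj_triple]
    have hfix : ∀ w, φ (L w) = L w := fun w => by
      refine top_fixed φ hφ ?_
      rw [show X 23 (L w) = ((xb φ hφ t)⁻¹ * (xc φ hφ w * xb φ hφ t * (xc φ hφ w)⁻¹) : Gp φ hφ).1 by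
        rw [Subgroup.coe_mul, hconj, InvMemClass.coe_inv, inv_mul_cancel_left]]
      exact SetLike.coe_mem _
    set lam : K := (v : K) / L w₀ with hlam
    have hl : φ lam = lam := by rw [hlam, map_div₀, hfix, coe_fixed φ v]
    have hLl : L (lam * w₀) = (v : K) := by
      have : L (lam * w₀) = lam * L w₀ := by
        simp only [hL, map_mul, hl]; ring
      rw [this, hlam, div_mul_cancel₀ _ hw₀']
    rw [← hcl (xc φ hφ (lam * w₀)) (xb φ hφ t)]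
    refine congrArg χ (Subtype.ext ?_)
    rw [hconj, hLl, Subgroup.coe_mul]
    rfl
  · set s : ↥(Fq φ) := -v / r with hs
    rw [← hcl (dRt φ hφ s) (aRt φ hφ r * xb φ hφ t)]
    refine congrArg χ (Subtype.ext ?_)
    show (X 14 (r : K) * (xb φ hφ t).1) * X 23 (v : K) =
      X 22 (s : K) * (X 14 (r : K) * (xb φ hφ t).1) * (X 22 (s : K))⁻¹
    rw [hb, conj_mul₂, conj_mul₂, conj_mul₂, conj_X (k := 23) (c := 1) (by decide +kernel),
      conj_eq_self (by decide +kernel), conj_eq_self (by decide +kernel),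
      conj_eq_self (by decide +kernel)]
    have hval : -((((1 : ℤ) : K)) * (r : K) * (s : K)) = (v : K) := by
      have hrK : (r : K) ≠ 0 := fun e => hr (Subtype.ext e)
      rw [hs, Int.cast_one, one_mul, Subfield.coe_div, Subfield.coe_neg]
      field_simp
    rw [hval, mul_assoc (X 14 (r : K)) (X 23 _), mul_assoc (X 14 (r : K))]
    congr 1
    refine ((commute_top (v : K) _ ?_).symm).eq
    exact Subgroup.mul_mem _ (Subgroup.mul_mem _ (mem_Qf (by decide) _) (mem_Qf (by decide) _))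
      (mem_Qf (by decide) _)

end Cfsg.Agent.D4Deg
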