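import Cfsg.Agent.Chev.Twist.D4Main
import Cfsg.Agent.Chev.Twist.TwoGen
import Cfsg.Agent.Chev.Lift
import Mathlib.GroupTheory.QuotientGroup.Basic

/-!
Elements of `³D₄(q)` in the unipotent radical of the parabolic of the long root group.
-/

set_option autoImplicit false
set_option maxRecDepth 100000

namespace Cfsg.Agent.D4Deg

open Cfsg.Lie Cfsg.Agent.Chev
open scoped MatrixGroups

universe u

variable {K : Type u} [Field K]

/-- The root elements. -/
noncomputable abbrev X (r : ℕ) (t : K) : GL chevD4.Idx K := xG facts_chevD4 r t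

/-- Two root elements commute. -/
theorem commute_X {r s : ℕ}
    (h : r < chevD4.nroots ∧ s < chevD4.nroots ∧ s ≠ r ∧ s ≠ chevD4.neg r ∧
      chevD4.commTerms r s = []) (t v : K) : Commute (X s v) (X r t) := by
  obtain ⟨hr, hs, hsr, hsn, hct⟩ := h
  have := xG_comm facts_chevD4 hr hs hsr hsn t v
  rw [ChevalleyDatum.commWord, hct, List.map_nil] at this
  simpa [Commute, SemiconjBy, wordG] using this

/-- The conjugate of a root element with a one-term commutator. -/
theorem conj_X {r s k : ℕ} {c : ℤ}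
    (h : r < chevD4.nroots ∧ s < chevD4.nroots ∧ s ≠ r ∧ s ≠ chevD4.neg r ∧
      chevD4.commTerms r s = [(k, c, 1, 1)] ∧ k < chevD4.nroots ∧ s ≠ k ∧ s ≠ chevD4.neg k ∧
      chevD4.commTerms k s = []) (t v : K) :
    X s v * X r t * (X s v)⁻¹ = X r t * X k (-((c : K) * t * v)) := by
  obtain ⟨hr, hs, hsr, hsn, hct, hk, hsk, hskn, hct'⟩ := h
  have hc := xG_comm facts_chevD4 hr hs hsr hsn t v
  rw [ChevalleyDatum.commWord, hct] at hc
  simp only [List.map_cons, List.map_nil, wordG, List.prod_cons, List.prod_nil, mul_one,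
    pow_one] at hc
  show xG facts_chevD4 s v * xG facts_chevD4 r t * (xG facts_chevD4 s v)⁻¹ = _
  rw [hc, mul_assoc (xG facts_chevD4 r t * xG facts_chevD4 s v),
    ← ((commute_X ⟨hk, hs, hsk, hskn, hct'⟩ _ v).inv_left.eq : (X s v)⁻¹ * X k _ = _), ← mul_assoc,
    mul_inv_cancel_right]
  congr 2
  ring

theorem conj_mul₂ {G : Type u} [Group G] (g x y : G) :
    g * (x * y) * g⁻¹ = (g * x * g⁻¹) * (g * y * g⁻¹) := by group

theorem conj_eq_self {r s : ℕ}
    (h : r < chevD4.nroots ∧ s < chevD4.nroots ∧ s ≠ r ∧ s ≠ chevD4.neg r ∧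
      chevD4.commTerms r s = []) (t v : K) : X s v * X r t * (X s v)⁻¹ = X r t := by
  rw [(commute_X h t v).eq, mul_inv_cancel_right]

/-- The conjugates of a long root element by a product over the short orbit. -/
theorem conj_fourteen (r t₀ t₁ t₂ : K) :
    X 18 t₀ * X 13 t₁ * X 12 t₂ * X 14 r * (X 18 t₀ * X 13 t₁ * X 12 t₂)⁻¹ =
      X 14 r * X 19 (-(r * t₀)) * (X 16 (r * t₁) * X 21 (-(r * t₁ * t₀))) *
        (X 15 (r * t₂) * X 20 (-(r * t₂ * t₀)) *
          (X 17 (r * t₂ * t₁) * X 22 (-(r * t₂ * t₁ * t₀)))) := by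
  have e1 : X 12 t₂ * X 14 r * (X 12 t₂)⁻¹ = X 14 r * X 15 (r * t₂) := by
    rw [conj_X (k := 15) (c := -1) (by decide +kernel)]; simp
  have e2 : X 13 t₁ * (X 14 r * X 15 (r * t₂)) * (X 13 t₁)⁻¹ =
      X 14 r * X 16 (r * t₁) * (X 15 (r * t₂) * X 17 (r * t₂ * t₁)) := by
    rw [conj_mul₂, conj_X (k := 16) (c := -1) (by decide +kernel),
      conj_X (k := 17) (c := -1) (by decide +kernel)]
    simp
  have e3 : X 18 t₀ * (X 14 r * X 16 (r * t₁) * (X 15 (r * t₂) * X 17 (r * t₂ * t₁))) *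
      (X 18 t₀)⁻¹ =
      X 14 r * X 19 (-(r * t₀)) * (X 16 (r * t₁) * X 21 (-(r * t₁ * t₀))) *
        (X 15 (r * t₂) * X 20 (-(r * t₂ * t₀)) *
          (X 17 (r * t₂ * t₁) * X 22 (-(r * t₂ * t₁ * t₀)))) := by
    rw [conj_mul₂, conj_mul₂, conj_mul₂, conj_X (k := 19) (c := 1) (by decide +kernel),
      conj_X (k := 21) (c := 1) (by decide +kernel), conj_X (k := 20) (c := 1) (by decide +kernel),
      conj_X (k := 22) (c := 1) (by decide +kernel)]
    simp
  rw [← e3, ← e2, ← e1]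
  group

/-- The roots of the unipotent radical. -/
def qRoots : List ℕ := [14, 15, 16, 17, 19, 20, 21, 22, 23]

/-- The unipotent radical. -/
noncomputable def Qf (K : Type u) [Field K] : Subgroup (GL chevD4.Idx K) :=
  Subgroup.closure {g | ∃ r ∈ qRoots, ∃ t : K, g = X r t}

/-- The highest root group. -/
noncomputable def Xtop (K : Type u) [Field K] : Subgroup (GL chevD4.Idx K) where
  carrier := Set.range fun t : K => X 23 t
  one_mem' := ⟨0, xG_zero facts_chevD4 _⟩
  mul_mem' := by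
    rintro _ _ ⟨a, rfl⟩ ⟨b, rfl⟩
    exact ⟨a + b, (xG_mul facts_chevD4 _ _ _).symm⟩
  inv_mem' := by
    rintro _ ⟨a, rfl⟩
    exact ⟨-a, (xG_inv facts_chevD4 _ _).symm⟩

theorem mem_Qf {r : ℕ} (hr : r ∈ qRoots) (t : K) : X r t ∈ Qf K :=
  Subgroup.subset_closure ⟨r, hr, t, rfl⟩

theorem qRoots_pairs : ∀ r ∈ qRoots, ∀ s ∈ qRoots, r < chevD4.nroots ∧ s < chevD4.nroots ∧
    (s = r ∨ (s ≠ chevD4.neg r ∧ ∀ c ∈ chevD4.commTerms r s, c.1 = 23)) ∧
    (r = 23 → s = r ∨ chevD4.commTerms r s = []) := by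
  decide +kernel

theorem commute_top (t : K) : ∀ g ∈ Qf K, Commute (X 23 t) g := by
  have : Qf K ≤ Subgroup.centralizer {X 23 t} := by
    refine (Subgroup.closure_le _).2 ?_
    rintro _ ⟨s, hs, v, rfl⟩
    rw [SetLike.mem_coe, Subgroup.mem_centralizer_singleton_iff]
    obtain ⟨hr, hs', h1, h2⟩ := qRoots_pairs 23 (by decide) s hs
    rcases h1 with rfl | ⟨hn, -⟩
    · show xG facts_chevD4 23 v * xG facts_chevD4 23 t = xG facts_chevD4 23 t * xG facts_chevD4 23 v
      rw [xG_mul, xG_mul, add_comm]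
    · rcases h2 rfl with rfl | h2
      · show xG facts_chevD4 23 v * xG facts_chevD4 23 t = xG facts_chevD4 23 t * xG facts_chevD4 23 v
        rw [xG_mul, xG_mul, add_comm]
      · by_cases hsr : s = 23
        · subst hsr
          show xG facts_chevD4 23 v * xG facts_chevD4 23 t = xG facts_chevD4 23 t * xG facts_chevD4 23 v
          rw [xG_mul, xG_mul, add_comm]
        · exact (commute_X ⟨hr, hs', hsr, hn, h2⟩ t v).eq
  intro g hg
  exact ((Subgroup.mem_centralizer_singleton_iff.1 (this hg))).symm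

instance : ((Xtop K).subgroupOf (Qf K)).Normal :=
  ⟨fun x hx g => by
    obtain ⟨t, ht⟩ := Subgroup.mem_subgroupOf.1 hx
    rw [Subgroup.mem_subgroupOf]
    refine ⟨t, ?_⟩
    have hc := commute_top t (g : GL chevD4.Idx K) g.2
    simp only at ht ⊢
    rw [Subgroup.coe_mul, Subgroup.coe_mul, ← ht, ← hc.eq, InvMemClass.coe_inv, mul_inv_cancel_right]⟩

/-- The unipotent radical modulo the highest root group. -/
abbrev Qbar (K : Type u) [Field K] := ↥(Qf K) ⧸ (Xtop K).subgroupOf (Qf K)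

theorem commute_bar (a b : Qbar K) : Commute a b := by
  have hgen : ∀ (r : ℕ) (hr : r ∈ qRoots) (t : K) (g : ↥(Qf K)),
      Commute (QuotientGroup.mk (⟨X r t, mem_Qf hr t⟩ : ↥(Qf K)) : Qbar K)
        (QuotientGroup.mk g) := by
    intro r hr t
    rintro ⟨g, hg⟩
    induction hg using Subgroup.closure_induction with
    | one =>
      rw [show (⟨1, _⟩ : ↥(Qf K)) = 1 from rfl, QuotientGroup.mk_one]
      exact Commute.one_right _
    | mul x y hx hy ihx ihy =>
      rw [show (⟨x * y, _⟩ : ↥(Qf K)) = (⟨x, hx⟩ : ↥(Qf K)) * ⟨y, hy⟩ from rfl,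
        QuotientGroup.mk_mul]
      exact ihx.mul_right ihy
    | inv x hx ih =>
      rw [show (⟨x⁻¹, _⟩ : ↥(Qf K)) = (⟨x, hx⟩ : ↥(Qf K))⁻¹ from rfl, QuotientGroup.mk_inv]
      exact ih.inv_right
    | mem x hx =>
      obtain ⟨s, hs, v, rfl⟩ := hx
      obtain ⟨hr', hs', h1, -⟩ := qRoots_pairs r hr s hs
      rcases h1 with rfl | ⟨hn, h1⟩
      · rw [Commute, SemiconjBy, ← QuotientGroup.mk_mul, ← QuotientGroup.mk_mul]
        congr 1
        refine Subtype.ext ?_
        show xG facts_chevD4 s t * xG facts_chevD4 s v = xG facts_chevD4 s v * xG facts_chevD4 s t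
        rw [xG_mul, xG_mul, add_comm]
      by_cases hsr : s = r
      · subst hsr
        rw [Commute, SemiconjBy, ← QuotientGroup.mk_mul, ← QuotientGroup.mk_mul]
        congr 1
        refine Subtype.ext ?_
        show xG facts_chevD4 s t * xG facts_chevD4 s v = xG facts_chevD4 s v * xG facts_chevD4 s t
        rw [xG_mul, xG_mul, add_comm]
      rw [Commute, SemiconjBy, ← QuotientGroup.mk_mul, ← QuotientGroup.mk_mul, QuotientGroup.eq]
      rw [Subgroup.mem_subgroupOf]
      have hc := xG_comm facts_chevD4 hr' hs' hsr hn t v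
      have hw : wordG facts_chevD4 (chevD4.commWord K r s t v) ∈ Xtop K := by
        refine Subgroup.list_prod_mem _ fun y hy => ?_
        obtain ⟨p, hp, rfl⟩ := List.mem_map.1 hy
        obtain ⟨c, hc', rfl⟩ := List.mem_map.1 hp
        exact ⟨_, by show X 23 _ = xG facts_chevD4 c.1 _; rw [h1 c hc']⟩
      show (X r t * X s v)⁻¹ * (X s v * X r t) ∈ Xtop K
      show (xG facts_chevD4 r t * xG facts_chevD4 s v)⁻¹ * _ ∈ _
      rw [hc, ← mul_assoc, inv_mul_cancel, one_mul]
      exact hw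
  induction a using QuotientGroup.induction_on with
  | H a =>
    induction b using QuotientGroup.induction_on with
    | H b =>
      obtain ⟨a, ha⟩ := a
      induction ha using Subgroup.closure_induction with
      | one =>
        rw [show (⟨1, _⟩ : ↥(Qf K)) = 1 from rfl, QuotientGroup.mk_one]
        exact Commute.one_left _
      | mul x y hx hy ihx ihy =>
        rw [show (⟨x * y, _⟩ : ↥(Qf K)) = (⟨x, hx⟩ : ↥(Qf K)) * ⟨y, hy⟩ from rfl,
          QuotientGroup.mk_mul]
        exact ihx.mul_left ihy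
      | inv x hx ih =>
        rw [show (⟨x⁻¹, _⟩ : ↥(Qf K)) = (⟨x, hx⟩ : ↥(Qf K))⁻¹ from rfl, QuotientGroup.mk_inv]
        exact ih.inv_left
      | mem x hx =>
        obtain ⟨r, hr, t, rfl⟩ := hx
        exact hgen r hr t b

noncomputable instance : CommGroup (Qbar K) :=
  { (inferInstance : Group (Qbar K)) with mul_comm := fun a b => (commute_bar a b).eq }

variable (φ : K →+* K) (hφ : ∀ t, (φ ^ 3) t = t)

local notation "T" => twistD4 K φ hφ

theorem single_mem : ∀ r ∈ ([14, 22, 23] : List ℕ), ∀ t, φ t = t → X r t ∈ (T).G1 := by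
  have hM : ∀ g ∈ (T).G1, ∀ x ∈ (T).G1, g * x * g⁻¹ ∈ (T).G1 := fun g hg x hx =>
    Subgroup.mul_mem _ (Subgroup.mul_mem _ hg hx) (Subgroup.inv_mem _ hg)
  have h14 : (T).XIn (T).G1 14 := d4_conj_roots.2.2.2 ▸ (T).xIn_single (a := (1 : Fin 2)) rfl
  have h22 : (T).XIn (T).G1 22 := by
    have e := ((T).pW_single_val (0 : Fin 2) ⟨14, by decide +kernel⟩).trans d4_conj_roots.1
    exact e ▸ (T).xIn_conj hM [(0 : Fin 2)] (r := ⟨14, by decide +kernel⟩) h14
  have h23 : (T).XIn (T).G1 23 := by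
    have e := ((T).pW_single_val (1 : Fin 2) ⟨22, by decide +kernel⟩).trans
      (show (orbNats d4_031_π d4Base d4Len 1).foldr (fun i s => chevD4.reflectRoot i s) 22 = 23 by
        decide +kernel)
    exact e ▸ (T).xIn_conj hM [(1 : Fin 2)] (r := ⟨22, by decide +kernel⟩) h22
  intro r hr t ht
  simp only [List.mem_cons, List.not_mem_nil, or_false] at hr
  rcases hr with rfl | rfl | rfl
  exacts [h14 t ht, h22 t ht, h23 t ht]

/-- The element of the short fundamental orbit. -/
noncomputable def uel (t : K) : GL chevD4.Idx K := X 18 t * X 13 (φ t) * X 12 ((φ ^ 2) t)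

theorem uel_mem (t : K) : uel φ t ∈ (T).G1 := by
  have h := (T).y_mem_G1 (a := (0 : Fin 2)) (t := t) ((T).par_of_len rfl t) true
  have e : (T).y true (0 : Fin 2) t = uel φ t := by
    show ((List.range (d4Len 0)).map fun j : ℕ =>
      xG facts_chevD4 ((T).rt true (0 : Fin 2) j : ℕ) ((φ ^ j) t)).prod = _
    rw [show d4Len 0 = 3 from rfl]
    simp only [uel, List.range_succ, List.range_zero, List.nil_append, List.map_append,
      List.map_cons, List.map_nil, List.prod_append, List.prod_cons, List.prod_nil, one_mul, mul_one]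
    show xG facts_chevD4 ((T).rt true (0 : Fin 2) 0 : ℕ) ((φ ^ 0) t) *
      xG facts_chevD4 ((T).rt true (0 : Fin 2) 1 : ℕ) ((φ ^ 1) t) *
      xG facts_chevD4 ((T).rt true (0 : Fin 2) 2 : ℕ) ((φ ^ 2) t) = _
    rw [pow_zero, pow_one, show ((T).rt true (0 : Fin 2) 0 : ℕ) = 18 from
        (by decide +kernel : rtNat chevD4 d4_031_π d4Base true 0 0 = 18),
      show ((T).rt true (0 : Fin 2) 1 : ℕ) = 13 from
        (by decide +kernel : rtNat chevD4 d4_031_π d4Base true 0 1 = 13),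
      show ((T).rt true (0 : Fin 2) 2 : ℕ) = 12 from
        (by decide +kernel : rtNat chevD4 d4_031_π d4Base true 0 2 = 12)]
    rfl
  rwa [e] at h

/-- The reflection representative of an orbit. -/
noncomputable def nel (a : Fin 2) : GL chevD4.Idx K := (T).nW [a]

theorem nel_mem (a : Fin 2) : nel φ hφ a ∈ (T).G1 := (T).N1_le_G1 ((T).nW_mem_N1 _)

theorem nel_conj (a : Fin 2) {r s : ℕ} (hr : r < chevD4.nroots)
    (h : (orbNats d4_031_π d4Base d4Len a).foldr (fun i s => chevD4.reflectRoot i s) r = s) :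
    ∃ e : K, (e = 1 ∨ e = -1) ∧ ∀ v : K, nel φ hφ a * X r v * (nel φ hφ a)⁻¹ = X s (e * v) := by
  obtain ⟨e, he, hc⟩ := (T).nWord_conj_x ((T).flat [a]) ⟨r, hr⟩
  refine ⟨e, he, fun v => (hc v).trans ?_⟩
  show xG facts_chevD4 (((T).pW [a]) ⟨r, hr⟩ : ℕ) (e * v) = _
  rw [((T).pW_single_val a ⟨r, hr⟩).trans h]

theorem top_conj {r s : K} (hr : φ r = r) (hr0 : r ≠ 0) :
    ∃ g ∈ (T).G1, g * X 23 s * g⁻¹ = X 23 (r * s) := by
  classical
  set c : Fin chevD4.rank → Kˣ := fun j => if (j : ℕ) = 1 then Units.mk0 r hr0 else 1 with hc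
  have hcfix : c ∈ (T).cfix := by
    rw [Twist.mem_cfix]
    funext i
    show Units.map φ.toMonoidHom (c (d4_031_π.symm i)) = c i
    have hiff : ∀ i : Fin chevD4.rank, ((d4_031_π.symm i : Fin chevD4.rank) : ℕ) = 1 ↔ (i : ℕ) = 1 := by
      decide +kernel
    by_cases h : (i : ℕ) = 1
    · simp only [hc, if_pos ((hiff i).2 h), if_pos h]
      exact Units.ext hr
    · simp only [hc, if_neg h, if_neg (mt (hiff i).1 h), map_one]
  refine ⟨torusHom c, (T).T1_le_G1 ⟨c, hcfix, rfl⟩, ?_⟩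
  have hchi : (chiU (D := chevD4) c 23 : K) = r := by
    have h1 : ∀ j : Fin chevD4.rank, chevD4.cartan j 23 = if (j : ℕ) = 1 then 1 else 0 := by
      decide +kernel
    have e : chiU (D := chevD4) c 23 = Units.mk0 r hr0 := by
      rw [chiU, Finset.prod_eq_single (⟨1, by decide +kernel⟩ : Fin chevD4.rank)]
      · rw [h1, if_pos rfl, zpow_one, hc]; rfl
      · intro j _ hj
        rw [h1, if_neg fun h => hj (Fin.ext h), zpow_zero]
      · exact fun h => absurd (Finset.mem_univ _) h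
    rw [e]; rfl
  show torusHom c * xG facts_chevD4 23 s * (torusHom c)⁻¹ = _
  rw [torusHom_conj facts_chevD4 c (by decide +kernel) s, mul_inv_cancel_right, hchi]

theorem top_fixed {v : K} (h : X 23 v ∈ (T).G1) : φ v = v := by
  obtain ⟨e, -, he⟩ := (T).σ_x ⟨23, by decide +kernel⟩
  have hρ : ((T).ρ ⟨23, by decide +kernel⟩ : ℕ) = 23 :=
    (by decide +kernel : (d4_031_ρ ⟨23, by decide +kernel⟩ : ℕ) = 23)
  have key : ∀ w, X 23 w ∈ (T).G1 → e * φ w = w := fun w hw => by
    have h1 := (T).mem_fx.1 ((T).G1_le_fx hw)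
    have h2 := he w
    rw [hρ] at h2
    exact xG_inj facts_chevD4 (by decide +kernel) (h2.symm.trans h1)
  have e1 : e = 1 := by
    have := key 1 (single_mem φ hφ 23 (by decide) 1 (map_one _))
    rwa [map_one, mul_one] at this
  have := key v h
  rwa [e1, one_mul] at this

end Cfsg.Agent.D4Deg
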